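import Mathlib.Data.Int.Notation
import Mathlib.Data.Nat.Notation

/-! # Certificates for the rank 28 Gaussian lattice: echelon rows and combinations -/

set_option autoImplicit false
set_option maxRecDepth 100000

namespace Cfsg.Agent.Lib.Ru

def ruRows : List (List ℤ) :=
  [[1, 0, 0, 0, 0, 0, 0, 1, 0, 0, 0, 1, 0, 0, 0, 1, 0, 0, 0, 0, 1, 1, 0, 0, 0, 0, 0, 1, 1, 0, 0, 0, 0, 0, 1, 1, 0, 1, 2, 1, 1, 1, 0, 0, 1, 0, 0, 1, 1, 0, 2, 2, 0, 1, 3, 1],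
   [0, 1, 0, 0, 0, 0, 0, 1, 0, 0, 0, 0, 0, 1, 1, 0, 0, 0, 0, 0, 0, 1, 0, 1, 0, 1, 1, 1, 0, 1, 1, 1, 0, 0, 1, 2, 1, 0, 2, 2, 1, 0, 1, 3, 0, 1, 3, 3, 0, 1, 2, 3, 0, 3, 0, 3],
   [0, 0, 1, 0, 0, 0, 0, 1, 0, 0, 0, 1, 0, 1, 0, 0, 0, 0, 0, 1, 0, 0, 0, 1, 0, 1, 1, 0, 0, 1, 1, 0, 0, 1, 0, 0, 0, 0, 0, 3, 1, 1, 1, 1, 0, 1, 3, 0, 0, 2, 2, 2, 1, 2, 3, 2],
   [0, 0, 0, 1, 0, 0, 0, 1, 0, 0, 0, 0, 0, 0, 1, 1, 0, 0, 0, 1, 1, 0, 0, 0, 0, 1, 1, 0, 0, 0, 1, 3, 0, 1, 0, 1, 1, 1, 2, 2, 1, 0, 1, 1, 0, 3, 0, 2, 1, 2, 2, 2, 0, 2, 0, 3],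
   [0, 0, 0, 0, 1, 0, 0, 1, 0, 0, 0, 0, 0, 1, 0, 1, 0, 0, 0, 1, 0, 0, 1, 2, 0, 1, 0, 0, 0, 0, 1, 2, 0, 0, 1, 2, 0, 0, 3, 2, 0, 1, 0, 3, 1, 0, 1, 0, 0, 2, 1, 0, 0, 1, 0, 2],
   [0, 0, 0, 0, 0, 1, 0, 1, 0, 0, 0, 1, 0, 0, 1, 0, 0, 0, 0, 1, 0, 1, 0, 0, 0, 0, 1, 0, 0, 0, 1, 0, 0, 1, 1, 2, 1, 0, 2, 1, 1, 1, 1, 2, 0, 1, 3, 3, 0, 1, 2, 3, 0, 2, 0, 0],
   [0, 0, 0, 0, 0, 0, 1, 1, 0, 0, 0, 1, 0, 1, 1, 1, 0, 0, 0, 0, 0, 1, 1, 0, 0, 0, 0, 0, 1, 0, 1, 2, 0, 1, 0, 0, 1, 0, 1, 3, 0, 1, 1, 3, 1, 3, 3, 0, 0, 2, 3, 2, 1, 3, 2, 1],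
   [0, 0, 0, 0, 0, 0, 0, 2, 0, 0, 0, 0, 0, 0, 0, 0, 0, 0, 0, 0, 1, 1, 1, 1, 0, 0, 0, 0, 0, 0, 0, 0, 0, 1, 0, 3, 0, 1, 1, 2, 0, 1, 1, 2, 1, 2, 1, 2, 1, 1, 2, 2, 3, 1, 2, 0],
   [0, 0, 0, 0, 0, 0, 0, 0, 1, 0, 0, 1, 0, 1, 0, 1, 0, 0, 0, 0, 0, 0, 0, 2, 0, 0, 1, 1, 1, 1, 0, 0, 0, 1, 0, 1, 1, 0, 0, 1, 1, 1, 1, 3, 0, 0, 0, 2, 1, 3, 1, 1, 1, 3, 3, 1],
   [0, 0, 0, 0, 0, 0, 0, 0, 0, 1, 0, 1, 0, 1, 1, 0, 0, 0, 0, 0, 0, 0, 0, 0, 0, 0, 1, 1, 0, 0, 1, 1, 0, 0, 1, 1, 1, 1, 2, 0, 0, 1, 0, 3, 1, 2, 2, 3, 0, 0, 2, 0, 2, 0, 2, 0],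
   [0, 0, 0, 0, 0, 0, 0, 0, 0, 0, 1, 1, 0, 0, 1, 1, 0, 0, 0, 0, 1, 1, 1, 1, 0, 1, 0, 1, 1, 0, 0, 3, 0, 1, 0, 1, 1, 0, 0, 3, 1, 1, 1, 1, 0, 0, 0, 2, 1, 1, 0, 0, 3, 3, 0, 2],
   [0, 0, 0, 0, 0, 0, 0, 0, 0, 0, 0, 2, 0, 0, 0, 0, 0, 0, 0, 0, 1, 1, 1, 3, 0, 0, 0, 0, 0, 0, 0, 2, 0, 1, 0, 1, 0, 1, 3, 0, 1, 0, 0, 3, 0, 1, 0, 1, 1, 1, 2, 2, 3, 1, 2, 2],
   [0, 0, 0, 0, 0, 0, 0, 0, 0, 0, 0, 0, 1, 1, 1, 1, 0, 0, 0, 0, 0, 0, 0, 0, 0, 1, 0, 1, 0, 1, 1, 0, 0, 1, 1, 2, 1, 0, 3, 2, 0, 0, 1, 3, 0, 0, 3, 3, 1, 3, 1, 1, 1, 1, 3, 1],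
   [0, 0, 0, 0, 0, 0, 0, 0, 0, 0, 0, 0, 0, 2, 0, 0, 0, 0, 0, 0, 1, 1, 1, 3, 0, 0, 0, 0, 0, 0, 0, 2, 0, 1, 0, 1, 0, 1, 3, 0, 1, 0, 0, 3, 0, 3, 2, 1, 1, 3, 0, 2, 1, 3, 0, 0],
   [0, 0, 0, 0, 0, 0, 0, 0, 0, 0, 0, 0, 0, 0, 2, 0, 0, 0, 0, 0, 1, 1, 1, 3, 0, 0, 0, 0, 0, 0, 0, 2, 0, 1, 0, 1, 0, 1, 3, 0, 1, 0, 0, 1, 0, 3, 2, 3, 1, 1, 0, 0, 3, 3, 2, 0],
   [0, 0, 0, 0, 0, 0, 0, 0, 0, 0, 0, 0, 0, 0, 0, 2, 0, 0, 0, 0, 1, 1, 1, 3, 0, 0, 0, 0, 0, 0, 0, 2, 0, 1, 0, 1, 0, 1, 3, 0, 1, 0, 0, 3, 0, 3, 0, 3, 1, 3, 2, 2, 3, 3, 2, 2],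
   [0, 0, 0, 0, 0, 0, 0, 0, 0, 0, 0, 0, 0, 0, 0, 0, 1, 0, 0, 1, 0, 1, 0, 1, 0, 0, 0, 0, 0, 0, 0, 2, 0, 0, 1, 3, 1, 1, 2, 0, 0, 1, 0, 3, 1, 0, 0, 3, 0, 2, 0, 2, 3, 3, 1, 3],
   [0, 0, 0, 0, 0, 0, 0, 0, 0, 0, 0, 0, 0, 0, 0, 0, 0, 1, 0, 1, 1, 0, 0, 1, 0, 0, 0, 0, 0, 0, 0, 0, 0, 1, 1, 0, 0, 1, 0, 1, 1, 0, 1, 2, 1, 0, 2, 3, 0, 3, 1, 2, 1, 2, 1, 0],
   [0, 0, 0, 0, 0, 0, 0, 0, 0, 0, 0, 0, 0, 0, 0, 0, 0, 0, 1, 1, 0, 0, 1, 3, 0, 0, 0, 0, 0, 0, 0, 2, 0, 1, 0, 3, 1, 0, 0, 3, 1, 1, 1, 1, 0, 0, 0, 2, 1, 0, 2, 3, 3, 2, 3, 0],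
   [0, 0, 0, 0, 0, 0, 0, 0, 0, 0, 0, 0, 0, 0, 0, 0, 0, 0, 0, 2, 0, 0, 0, 2, 0, 0, 0, 0, 0, 0, 0, 0, 0, 0, 0, 2, 0, 0, 2, 0, 1, 1, 1, 3, 1, 1, 3, 3, 1, 1, 1, 3, 3, 1, 1, 3],
   [0, 0, 0, 0, 0, 0, 0, 0, 0, 0, 0, 0, 0, 0, 0, 0, 0, 0, 0, 0, 2, 0, 0, 2, 0, 0, 0, 0, 0, 0, 0, 0, 0, 0, 0, 2, 0, 0, 2, 0, 0, 0, 0, 2, 0, 2, 0, 0, 0, 2, 0, 0, 2, 0, 0, 0],
   [0, 0, 0, 0, 0, 0, 0, 0, 0, 0, 0, 0, 0, 0, 0, 0, 0, 0, 0, 0, 0, 2, 0, 2, 0, 0, 0, 0, 0, 0, 0, 0, 0, 0, 0, 2, 0, 0, 0, 2, 1, 1, 1, 1, 1, 3, 1, 1, 1, 1, 1, 3, 1, 1, 1, 1],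
   [0, 0, 0, 0, 0, 0, 0, 0, 0, 0, 0, 0, 0, 0, 0, 0, 0, 0, 0, 0, 0, 0, 2, 2, 0, 0, 0, 0, 0, 0, 0, 0, 0, 0, 0, 0, 0, 0, 2, 2, 1, 1, 1, 3, 1, 1, 1, 1, 1, 3, 3, 1, 3, 1, 3, 3],
   [0, 0, 0, 0, 0, 0, 0, 0, 0, 0, 0, 0, 0, 0, 0, 0, 0, 0, 0, 0, 0, 0, 0, 4, 0, 0, 0, 0, 0, 0, 0, 0, 0, 0, 0, 0, 0, 0, 0, 0, 0, 0, 0, 0, 0, 0, 0, 0, 0, 0, 0, 0, 0, 0, 0, 0],
   [0, 0, 0, 0, 0, 0, 0, 0, 0, 0, 0, 0, 0, 0, 0, 0, 0, 0, 0, 0, 0, 0, 0, 0, 1, 1, 1, 1, 1, 1, 1, 3, 0, 0, 0, 2, 0, 0, 0, 2, 1, 1, 1, 1, 1, 1, 3, 1, 0, 2, 2, 0, 2, 2, 2, 2],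
   [0, 0, 0, 0, 0, 0, 0, 0, 0, 0, 0, 0, 0, 0, 0, 0, 0, 0, 0, 0, 0, 0, 0, 0, 0, 2, 0, 0, 0, 0, 0, 2, 0, 0, 0, 0, 0, 0, 2, 2, 1, 1, 1, 3, 1, 3, 1, 3, 1, 1, 3, 3, 1, 1, 3, 1],
   [0, 0, 0, 0, 0, 0, 0, 0, 0, 0, 0, 0, 0, 0, 0, 0, 0, 0, 0, 0, 0, 0, 0, 0, 0, 0, 2, 0, 0, 0, 0, 2, 0, 0, 0, 2, 0, 0, 0, 2, 1, 1, 1, 3, 1, 3, 1, 3, 1, 1, 3, 1, 1, 1, 3, 3],
   [0, 0, 0, 0, 0, 0, 0, 0, 0, 0, 0, 0, 0, 0, 0, 0, 0, 0, 0, 0, 0, 0, 0, 0, 0, 0, 0, 2, 0, 0, 0, 2, 0, 0, 0, 0, 0, 0, 2, 2, 0, 0, 0, 0, 0, 0, 0, 0, 0, 2, 2, 0, 0, 0, 2, 2],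
   [0, 0, 0, 0, 0, 0, 0, 0, 0, 0, 0, 0, 0, 0, 0, 0, 0, 0, 0, 0, 0, 0, 0, 0, 0, 0, 0, 0, 2, 0, 0, 2, 0, 0, 0, 0, 0, 0, 0, 0, 1, 1, 1, 3, 1, 3, 1, 3, 1, 1, 1, 1, 1, 3, 3, 3],
   [0, 0, 0, 0, 0, 0, 0, 0, 0, 0, 0, 0, 0, 0, 0, 0, 0, 0, 0, 0, 0, 0, 0, 0, 0, 0, 0, 0, 0, 2, 0, 2, 0, 0, 0, 2, 0, 0, 2, 0, 0, 0, 0, 0, 0, 0, 0, 0, 0, 0, 2, 0, 0, 0, 2, 0],
   [0, 0, 0, 0, 0, 0, 0, 0, 0, 0, 0, 0, 0, 0, 0, 0, 0, 0, 0, 0, 0, 0, 0, 0, 0, 0, 0, 0, 0, 0, 2, 2, 0, 0, 0, 2, 0, 0, 2, 0, 1, 1, 1, 3, 1, 3, 1, 3, 1, 3, 1, 1, 3, 3, 3, 3],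
   [0, 0, 0, 0, 0, 0, 0, 0, 0, 0, 0, 0, 0, 0, 0, 0, 0, 0, 0, 0, 0, 0, 0, 0, 0, 0, 0, 0, 0, 0, 0, 4, 0, 0, 0, 0, 0, 0, 0, 0, 0, 0, 0, 0, 0, 0, 0, 0, 0, 0, 0, 0, 0, 0, 0, 0],
   [0, 0, 0, 0, 0, 0, 0, 0, 0, 0, 0, 0, 0, 0, 0, 0, 0, 0, 0, 0, 0, 0, 0, 0, 0, 0, 0, 0, 0, 0, 0, 0, 1, 1, 1, 1, 1, 1, 3, 1, 0, 0, 0, 0, 0, 2, 2, 0, 1, 1, 1, 1, 3, 3, 1, 3],
   [0, 0, 0, 0, 0, 0, 0, 0, 0, 0, 0, 0, 0, 0, 0, 0, 0, 0, 0, 0, 0, 0, 0, 0, 0, 0, 0, 0, 0, 0, 0, 0, 0, 2, 0, 2, 0, 0, 2, 2, 1, 1, 1, 3, 1, 3, 1, 3, 1, 3, 3, 3, 1, 3, 3, 1],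
   [0, 0, 0, 0, 0, 0, 0, 0, 0, 0, 0, 0, 0, 0, 0, 0, 0, 0, 0, 0, 0, 0, 0, 0, 0, 0, 0, 0, 0, 0, 0, 0, 0, 0, 2, 2, 0, 0, 2, 2, 0, 0, 0, 0, 0, 0, 0, 0, 0, 2, 0, 2, 2, 0, 0, 2],
   [0, 0, 0, 0, 0, 0, 0, 0, 0, 0, 0, 0, 0, 0, 0, 0, 0, 0, 0, 0, 0, 0, 0, 0, 0, 0, 0, 0, 0, 0, 0, 0, 0, 0, 0, 4, 0, 0, 0, 0, 0, 0, 0, 0, 0, 0, 0, 0, 0, 0, 0, 0, 0, 0, 0, 0],
   [0, 0, 0, 0, 0, 0, 0, 0, 0, 0, 0, 0, 0, 0, 0, 0, 0, 0, 0, 0, 0, 0, 0, 0, 0, 0, 0, 0, 0, 0, 0, 0, 0, 0, 0, 0, 2, 0, 2, 0, 1, 1, 1, 3, 1, 3, 1, 3, 1, 1, 1, 3, 1, 1, 3, 3],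
   [0, 0, 0, 0, 0, 0, 0, 0, 0, 0, 0, 0, 0, 0, 0, 0, 0, 0, 0, 0, 0, 0, 0, 0, 0, 0, 0, 0, 0, 0, 0, 0, 0, 0, 0, 0, 0, 2, 0, 2, 1, 1, 1, 3, 1, 3, 1, 3, 1, 3, 1, 1, 1, 3, 1, 3],
   [0, 0, 0, 0, 0, 0, 0, 0, 0, 0, 0, 0, 0, 0, 0, 0, 0, 0, 0, 0, 0, 0, 0, 0, 0, 0, 0, 0, 0, 0, 0, 0, 0, 0, 0, 0, 0, 0, 4, 0, 0, 0, 0, 0, 0, 0, 0, 0, 0, 0, 0, 0, 0, 0, 0, 0],
   [0, 0, 0, 0, 0, 0, 0, 0, 0, 0, 0, 0, 0, 0, 0, 0, 0, 0, 0, 0, 0, 0, 0, 0, 0, 0, 0, 0, 0, 0, 0, 0, 0, 0, 0, 0, 0, 0, 0, 4, 0, 0, 0, 0, 0, 0, 0, 0, 0, 0, 0, 0, 0, 0, 0, 0],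
   [0, 0, 0, 0, 0, 0, 0, 0, 0, 0, 0, 0, 0, 0, 0, 0, 0, 0, 0, 0, 0, 0, 0, 0, 0, 0, 0, 0, 0, 0, 0, 0, 0, 0, 0, 0, 0, 0, 0, 0, 2, 0, 0, 2, 0, 2, 0, 2, 0, 0, 2, 2, 0, 0, 2, 2],
   [0, 0, 0, 0, 0, 0, 0, 0, 0, 0, 0, 0, 0, 0, 0, 0, 0, 0, 0, 0, 0, 0, 0, 0, 0, 0, 0, 0, 0, 0, 0, 0, 0, 0, 0, 0, 0, 0, 0, 0, 0, 2, 0, 2, 0, 2, 2, 0, 0, 2, 2, 0, 2, 0, 2, 0],
   [0, 0, 0, 0, 0, 0, 0, 0, 0, 0, 0, 0, 0, 0, 0, 0, 0, 0, 0, 0, 0, 0, 0, 0, 0, 0, 0, 0, 0, 0, 0, 0, 0, 0, 0, 0, 0, 0, 0, 0, 0, 0, 2, 2, 0, 0, 2, 2, 0, 0, 2, 2, 2, 2, 0, 0],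
   [0, 0, 0, 0, 0, 0, 0, 0, 0, 0, 0, 0, 0, 0, 0, 0, 0, 0, 0, 0, 0, 0, 0, 0, 0, 0, 0, 0, 0, 0, 0, 0, 0, 0, 0, 0, 0, 0, 0, 0, 0, 0, 0, 4, 0, 0, 0, 0, 0, 0, 0, 0, 0, 0, 0, 0],
   [0, 0, 0, 0, 0, 0, 0, 0, 0, 0, 0, 0, 0, 0, 0, 0, 0, 0, 0, 0, 0, 0, 0, 0, 0, 0, 0, 0, 0, 0, 0, 0, 0, 0, 0, 0, 0, 0, 0, 0, 0, 0, 0, 0, 2, 2, 2, 2, 0, 2, 2, 0, 0, 2, 0, 2],
   [0, 0, 0, 0, 0, 0, 0, 0, 0, 0, 0, 0, 0, 0, 0, 0, 0, 0, 0, 0, 0, 0, 0, 0, 0, 0, 0, 0, 0, 0, 0, 0, 0, 0, 0, 0, 0, 0, 0, 0, 0, 0, 0, 0, 0, 4, 0, 0, 0, 0, 0, 0, 0, 0, 0, 0],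
   [0, 0, 0, 0, 0, 0, 0, 0, 0, 0, 0, 0, 0, 0, 0, 0, 0, 0, 0, 0, 0, 0, 0, 0, 0, 0, 0, 0, 0, 0, 0, 0, 0, 0, 0, 0, 0, 0, 0, 0, 0, 0, 0, 0, 0, 0, 4, 0, 0, 0, 0, 0, 0, 0, 0, 0],
   [0, 0, 0, 0, 0, 0, 0, 0, 0, 0, 0, 0, 0, 0, 0, 0, 0, 0, 0, 0, 0, 0, 0, 0, 0, 0, 0, 0, 0, 0, 0, 0, 0, 0, 0, 0, 0, 0, 0, 0, 0, 0, 0, 0, 0, 0, 0, 4, 0, 0, 0, 0, 0, 0, 0, 0],
   [0, 0, 0, 0, 0, 0, 0, 0, 0, 0, 0, 0, 0, 0, 0, 0, 0, 0, 0, 0, 0, 0, 0, 0, 0, 0, 0, 0, 0, 0, 0, 0, 0, 0, 0, 0, 0, 0, 0, 0, 0, 0, 0, 0, 0, 0, 0, 0, 2, 2, 2, 2, 2, 2, 2, 2],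
   [0, 0, 0, 0, 0, 0, 0, 0, 0, 0, 0, 0, 0, 0, 0, 0, 0, 0, 0, 0, 0, 0, 0, 0, 0, 0, 0, 0, 0, 0, 0, 0, 0, 0, 0, 0, 0, 0, 0, 0, 0, 0, 0, 0, 0, 0, 0, 0, 0, 4, 0, 0, 0, 0, 0, 0],
   [0, 0, 0, 0, 0, 0, 0, 0, 0, 0, 0, 0, 0, 0, 0, 0, 0, 0, 0, 0, 0, 0, 0, 0, 0, 0, 0, 0, 0, 0, 0, 0, 0, 0, 0, 0, 0, 0, 0, 0, 0, 0, 0, 0, 0, 0, 0, 0, 0, 0, 4, 0, 0, 0, 0, 0],
   [0, 0, 0, 0, 0, 0, 0, 0, 0, 0, 0, 0, 0, 0, 0, 0, 0, 0, 0, 0, 0, 0, 0, 0, 0, 0, 0, 0, 0, 0, 0, 0, 0, 0, 0, 0, 0, 0, 0, 0, 0, 0, 0, 0, 0, 0, 0, 0, 0, 0, 0, 4, 0, 0, 0, 0],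
   [0, 0, 0, 0, 0, 0, 0, 0, 0, 0, 0, 0, 0, 0, 0, 0, 0, 0, 0, 0, 0, 0, 0, 0, 0, 0, 0, 0, 0, 0, 0, 0, 0, 0, 0, 0, 0, 0, 0, 0, 0, 0, 0, 0, 0, 0, 0, 0, 0, 0, 0, 0, 4, 0, 0, 0],
   [0, 0, 0, 0, 0, 0, 0, 0, 0, 0, 0, 0, 0, 0, 0, 0, 0, 0, 0, 0, 0, 0, 0, 0, 0, 0, 0, 0, 0, 0, 0, 0, 0, 0, 0, 0, 0, 0, 0, 0, 0, 0, 0, 0, 0, 0, 0, 0, 0, 0, 0, 0, 0, 4, 0, 0],
   [0, 0, 0, 0, 0, 0, 0, 0, 0, 0, 0, 0, 0, 0, 0, 0, 0, 0, 0, 0, 0, 0, 0, 0, 0, 0, 0, 0, 0, 0, 0, 0, 0, 0, 0, 0, 0, 0, 0, 0, 0, 0, 0, 0, 0, 0, 0, 0, 0, 0, 0, 0, 0, 0, 4, 0],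
   [0, 0, 0, 0, 0, 0, 0, 0, 0, 0, 0, 0, 0, 0, 0, 0, 0, 0, 0, 0, 0, 0, 0, 0, 0, 0, 0, 0, 0, 0, 0, 0, 0, 0, 0, 0, 0, 0, 0, 0, 0, 0, 0, 0, 0, 0, 0, 0, 0, 0, 0, 0, 0, 0, 0, 4]]

def opCert0 : List (List (ℕ × ℤ)) :=
  [[(1, 1), (6, -1), (10, -1), (11, 1), (15, 1), (20, -1), (23, -1), (26, -1), (28, 1), (34, -1), (35, 1), (37, -1), (38, -1), (39, 3), (40, -1), (41, 2), (42, 1), (43, -1), (44, 1), (46, -2), (47, -1), (50, -2), (52, -1), (53, -1), (54, -1), (55, 1)],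
   [(0, -1), (6, -1), (7, 1), (11, 1), (12, -1), (13, 1), (14, 1), (15, 2), (20, -3), (21, -2), (22, -3), (24, -1), (25, 1), (27, 2), (28, 1), (29, 1), (30, 1), (31, -4), (33, -2), (35, 2), (36, 1), (37, -2), (38, -2), (39, 5), (40, 1), (41, 4), (42, 2), (43, -1), (44, 3), (45, -3), (46, -3), (47, -3), (50, -4), (52, -3), (53, -2), (54, -3), (55, -1)],
   [(3, 1), (6, -1), (10, -1), (11, 1), (12, -1), (13, 1), (14, 1), (15, 1), (18, -1), (20, -2), (21, -1), (22, -1), (24, -1), (25, 1), (27, 2), (28, 1), (29, 1), (30, 1), (31, -3), (32, -1), (34, 1), (35, 1), (36, 2), (37, -2), (38, -5), (39, 3), (40, -2), (41, 2), (42, 1), (43, -1), (45, -2), (47, -1), (48, -2), (50, -1), (53, 1), (54, -2), (55, 1)],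
   [(2, -1), (6, -1), (7, 1), (11, 1), (13, 1), (15, 1), (18, -1), (19, 1), (20, -2), (21, -1), (22, -1), (24, -1), (25, 1), (26, 1), (27, 1), (28, 1), (29, 1), (31, -2), (32, -1), (36, 1), (37, -1), (38, -3), (39, 3), (40, -1), (41, 1), (43, -2), (44, -2), (46, 1), (47, -2), (48, -3), (49, 3), (50, 1), (51, 1), (52, 1), (53, 3), (54, -1), (55, 2)],
   [(5, 1), (6, -1), (12, -1), (13, 1), (15, 1), (18, -1), (20, -1), (21, -1), (22, -1), (23, 1), (24, -1), (25, 1), (27, 1), (28, 1), (29, 1), (31, -1), (34, -1), (35, 2), (36, 1), (37, -1), (38, -2), (39, 4), (40, -1), (41, 1), (44, 1), (45, -1), (47, -1), (48, -1), (49, 1), (51, 1), (52, 2), (55, 1)],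
   [(4, -1), (6, -1), (7, 1), (10, -1), (11, 1), (13, 1), (14, 1), (15, 2), (18, -1), (19, 1), (20, -3), (21, -2), (22, -1), (25, 1), (27, 1), (28, 1), (30, 1), (31, -2), (32, -1), (33, -1), (35, 2), (36, 2), (37, -2), (38, -3), (39, 5), (40, -2), (41, 2), (43, -1), (45, -1), (46, -2), (47, -2), (48, -2), (49, 1), (51, 1), (52, -1), (53, 1), (54, -2), (55, 1)],
   [(6, -1), (7, 1), (10, -1), (11, 1), (12, -1), (13, 1), (14, 1), (15, 2), (20, -3), (21, -2), (22, -2), (25, 1), (27, 1), (28, 1), (29, 1), (31, -3), (32, -1), (33, -1), (34, 1), (35, 1), (36, 2), (37, -2), (38, -3), (39, 4), (40, -1), (41, 2), (42, 1), (47, -1), (48, -1), (49, 2), (50, -1), (52, -1), (53, 1), (54, -2), (55, 2)],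
   [(6, -2), (7, 1), (11, 1), (13, 1), (14, 1), (15, 1), (20, -3), (21, -1), (22, -2), (28, 1), (30, 1), (31, -2), (32, -1), (33, -1), (34, -1), (35, 1), (36, 1), (37, -2), (39, 5), (40, -1), (41, 2), (42, 1), (43, 1), (44, 1), (45, 1), (46, -1), (47, -2), (48, -1), (49, 3), (50, 1), (51, 2), (53, 1), (55, 3)],
   [(9, 1), (10, -1), (12, -1), (15, 1), (22, -1), (25, 1), (26, -1), (27, 1), (29, 1), (31, -1), (32, -1), (33, 1), (36, 1), (38, -2), (39, 1), (40, -1), (42, -1), (44, -1), (45, -1), (46, 1), (48, -1), (49, 1), (52, 1), (53, 2), (54, -1), (55, 3)],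
   [(8, -1), (10, -1), (11, 1), (12, -1), (13, 1), (14, 1), (15, 2), (20, -2), (21, -2), (22, -2), (25, 1), (27, 2), (28, 1), (29, 1), (31, -4), (33, -1), (35, 2), (36, 1), (37, -2), (38, -3), (39, 4), (41, 3), (42, 2), (43, -1), (44, 1), (45, -2), (46, -3), (47, -1), (48, 1), (50, -4), (51, -1), (52, -2), (53, -1), (54, -3)],
   [(10, -1), (11, 1), (15, 1), (20, -1), (22, -1), (24, -1), (25, 1), (27, 1), (28, 1), (29, 1), (30, -1), (31, -1), (32, -1), (35, 1), (36, 1), (38, -2), (39, 1), (40, -1), (41, 1), (43, -1), (45, -1), (47, -1), (48, -1), (49, 1), (50, -1), (51, -1), (52, 1), (53, 2), (54, -2), (55, 1)],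
   [(10, -2), (11, 1), (14, 1), (15, 1), (20, -1), (22, -2), (25, 1), (27, 1), (28, 1), (30, -1), (31, -1), (32, -1), (35, 1), (36, 1), (37, -1), (38, -1), (39, 3), (41, 2), (43, -1), (45, -2), (46, -1), (47, -1), (49, 1), (50, -2), (51, -1), (52, 1), (53, 2), (54, -3), (55, 2)],
   [(12, -1), (13, 1), (15, 1), (20, -1), (21, -1), (22, -1), (24, -1), (25, 1), (27, 1), (29, 1), (30, 1), (31, -2), (32, -1), (35, 1), (36, 1), (38, -2), (39, 2), (40, -1), (42, -1), (45, -1), (46, 1), (48, -2), (49, 1), (50, 1), (51, 1), (52, 2), (53, 1), (55, 2)],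
   [(12, -2), (13, 1), (14, 1), (15, 1), (20, -2), (21, -1), (22, -3), (23, 1), (25, 1), (27, 1), (29, 1), (31, -3), (32, -1), (34, 1), (35, 1), (36, 1), (37, -1), (39, 3), (41, 2), (42, 1), (43, 1), (45, -1), (49, 2), (50, -1), (51, -1), (55, 2)],
   [(15, 1), (20, -1), (22, -2), (23, 1), (30, -1), (32, -1), (35, 1), (38, 2), (39, 2), (40, 1), (41, 2), (42, 1), (46, -1), (48, 1), (49, 1), (50, -1), (51, -1), (53, 1), (55, 2)],
   [(14, -1), (21, 1), (22, -1), (23, 1), (30, -1), (31, 1), (32, -1), (33, 1), (37, 1), (38, 2), (42, -2), (43, 1), (44, -2), (45, 1), (46, 2), (47, 2), (48, -1), (49, 2), (50, 2), (51, 1), (52, 3), (53, 4), (54, 1), (55, 3)],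
   [(17, 1), (18, -1), (20, -1), (23, 1), (30, -1), (31, 1), (34, -2), (35, 3), (38, 2), (39, 2), (41, 1), (42, -1), (43, 1), (45, 1), (46, -1), (47, 1), (49, 1), (51, 2), (52, 2), (53, 2), (55, 2)],
   [(16, -1), (18, -1), (19, 1), (21, 1), (31, 1), (32, -1), (33, 1), (34, 1), (36, 1), (37, 1), (38, -1), (39, -1), (40, -2), (41, -1), (42, -3), (43, 1), (44, -2), (46, 1), (47, 2), (48, -3), (49, 1), (50, 4), (51, 2), (52, 3), (53, 4), (54, 2), (55, 2)],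
   [(18, -1), (19, 1), (22, -1), (23, 1), (30, -1), (31, 1), (32, -1), (33, 1), (34, -1), (35, 1), (36, 1), (37, 1), (39, 1), (40, -1), (42, -1), (44, -1), (49, 1), (50, 1), (51, 1), (52, 2), (53, 2), (54, 1), (55, 2)],
   [(18, -2), (19, 1), (23, 1), (31, 1), (33, 1), (34, -1), (35, 1), (36, 1), (38, -1), (39, 2), (40, -1), (42, -2), (44, -2), (47, 2), (48, -1), (49, 1), (50, 2), (51, 2), (52, 2), (53, 3), (55, 1)],
   [(21, 1), (22, -1), (34, -1), (38, 1), (39, 1), (42, -1), (43, 1), (44, -1), (46, 1), (47, 1), (48, -1), (49, 2), (50, 2), (51, 1), (52, 2), (53, 2), (54, 1), (55, 2)],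
   [(20, -1), (22, -1), (23, 1), (34, -1), (35, 1), (38, 1), (39, 1), (41, 1), (43, 1), (44, -1), (45, 1), (47, 1), (49, 2), (51, 1), (52, 1), (53, 1), (55, 2)],
   [(22, -1), (23, 1), (39, 1), (41, 1), (42, -1), (43, 1), (47, 1), (48, -1), (49, 1), (50, 1), (51, 2), (52, 1), (53, 2), (55, 2)],
   [(22, -2), (23, 1), (38, 1), (39, 1), (40, 1), (41, 1), (42, 1), (44, 1), (45, -1), (46, -1), (47, -1), (48, 1), (50, -1), (51, -1), (53, -1)],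
   [(24, -1), (25, 1), (27, 1), (29, 1), (30, -1), (34, -1), (35, 1), (38, -1), (41, 1), (47, 1), (48, -1), (49, 1), (50, -1), (51, 1), (52, 1), (53, 2), (54, -1), (55, 2)],
   [(24, -2), (25, 1), (26, 1), (27, 1), (28, 1), (29, 1), (31, -1), (38, -2), (40, -1), (42, -2), (44, -2), (46, 2), (47, 1), (48, -2), (49, 2), (50, 1), (51, 2), (52, 2), (53, 3), (54, -1), (55, 2)],
   [(27, 1), (30, -1), (34, -1), (35, 1), (41, 1), (42, -1), (43, 1), (44, -1), (45, 1), (47, 2), (49, 1), (51, 2), (52, 1), (53, 2), (54, -1), (55, 2)],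
   [(26, -1), (30, -1), (31, 1), (35, 1), (39, 1), (40, 1), (41, 1), (42, 1), (44, 1), (46, -1), (50, -1), (55, 1)],
   [(29, 1), (30, -1), (41, 1), (42, -1), (43, 1), (44, -1), (45, 1), (47, 2), (49, 1), (51, 1), (53, 2), (54, -1), (55, 2)],
   [(28, -1), (30, -1), (31, 1), (34, -1), (35, 1), (38, 1), (39, 1), (40, 1), (41, 1), (42, 1), (44, 1), (46, -1), (48, 1), (50, -2), (55, 1)],
   [(30, -1), (31, 1), (34, -1), (35, 1), (38, 1), (39, 1), (41, 1), (42, -1), (43, 1), (44, -1), (45, 1), (47, 2), (48, -1), (49, 2), (50, 1), (51, 2), (52, 1), (53, 3), (55, 3)],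
   [(30, -2), (31, 1), (35, 1), (38, 1), (40, 1), (41, 1), (42, 1), (44, 1), (46, -1), (48, 1), (50, -2), (51, -1)],
   [(32, -1), (33, 1), (37, 1), (40, -1), (41, -1), (42, -1), (44, -2), (45, 1), (46, 2), (47, 1), (48, -1), (49, 1), (50, 2), (51, 1), (52, 1), (53, 2), (55, 2)],
   [(32, -2), (33, 1), (36, 1), (37, 1), (40, -2), (41, -1), (42, -3), (43, 1), (44, -3), (45, 2), (46, 3), (47, 2), (48, -2), (49, 2), (50, 4), (51, 3), (52, 3), (53, 4), (54, 1), (55, 4)],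
   [(34, -1), (35, 1), (39, 1), (48, -1), (49, 1), (51, 1), (52, 1), (53, 1), (55, 1)],
   [(34, -2), (35, 1), (38, 1), (39, 1), (49, 1), (51, 1), (52, 1), (55, 1)],
   [(37, 1), (40, -1), (42, -2), (43, 1), (44, -2), (45, 1), (46, 1), (47, 2), (48, -1), (49, 1), (50, 2), (51, 2), (52, 1), (53, 2), (55, 2)],
   [(36, -1), (41, 1), (42, -1), (43, 1), (44, -1), (45, 1), (47, 2), (48, -1), (49, 1), (50, 1), (51, 2), (53, 2), (55, 2)],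
   [(39, 1)],
   [(38, -1)],
   [(41, 1), (42, -1), (44, -1), (47, 1), (51, 1), (53, 1), (54, -1), (55, 1)],
   [(40, -1), (42, -1), (43, 1), (44, -1), (45, 1), (46, 1), (47, 2), (48, -1), (49, 1), (50, 2), (51, 2), (52, 1), (53, 2), (54, 1), (55, 2)],
   [(42, -1), (43, 1), (47, 1), (51, 1), (53, 1)],
   [(42, -2), (43, 1), (46, 1), (47, 1), (50, 1), (51, 1), (52, 1), (53, 1)],
   [(44, -1), (45, 1), (47, 1), (48, -1), (49, 1), (50, 1), (51, 1), (53, 1), (55, 1)],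
   [(44, -2), (45, 1), (46, 1), (47, 1), (49, 1), (50, 1), (53, 1), (55, 1)],
   [(47, 1)],
   [(46, -1)],
   [(48, -1), (49, 1), (51, 1), (53, 1), (55, 1)],
   [(48, -2), (49, 1), (50, 1), (51, 1), (52, 1), (53, 1), (54, 1), (55, 1)],
   [(51, 1)],
   [(50, -1)],
   [(53, 1)],
   [(52, -1)],
   [(55, 1)],
   [(54, -1)]]

def opCert1 : List (List (ℕ × ℤ)) :=
  [[(3, 1), (5, 1), (7, -1), (8, -1), (13, 1), (14, -1), (19, -1), (23, 1), (24, -1), (27, 1), (28, 1), (29, 1), (30, -1), (31, -1), (32, -1), (33, 1), (35, 1), (36, 1), (37, 1), (38, -1), (39, -1), (40, -1), (42, -1), (45, -1), (46, 1), (48, -1), (52, 5), (53, 1), (54, 1)],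
   [(2, -1), (5, 1), (12, 1), (14, -1), (15, -1), (20, 1), (21, 1), (22, 1), (24, -1), (25, 1), (28, 1), (29, 1), (32, -2), (33, 2), (35, -2), (36, 1), (37, 3), (38, -2), (39, -3), (40, -5), (41, -4), (42, -5), (44, -3), (45, 2), (46, 5), (48, -5), (49, 2), (50, 7), (51, 3), (52, 7), (53, 5), (54, 3), (55, 3)],
   [(1, 1), (5, 1), (7, -1), (8, -1), (14, -1), (16, -1), (20, 1), (21, 1), (22, 1), (26, -1), (28, 1), (30, -1), (31, 1), (33, 1), (34, -1), (35, 1), (37, 3), (39, -2), (40, -3), (41, -1), (42, -3), (43, 1), (45, -1), (47, 1), (48, -2), (50, 2), (51, 2), (52, 5), (53, 1), (54, 3)],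
   [(0, -1), (5, 1), (12, 1), (14, -1), (16, -1), (20, 1), (21, 1), (26, -1), (28, 1), (29, 1), (30, -1), (31, 1), (32, -1), (36, 1), (37, 3), (39, -2), (40, -2), (41, -1), (42, -3), (44, -1), (46, 1), (48, -2), (50, 3), (51, 2), (52, 4), (53, 3), (54, 2), (55, 1)],
   [(5, 1), (6, -1), (13, 1), (16, -1), (21, 1), (23, -1), (26, -1), (28, 1), (29, 1), (32, -2), (33, 1), (34, 1), (35, -1), (36, 3), (37, 2), (38, -2), (39, -1), (40, -6), (41, -3), (42, -4), (43, 2), (44, -2), (45, 1), (46, 3), (47, 1), (48, -3), (49, 1), (50, 7), (51, 2), (52, 5), (53, 3), (54, 3), (55, 3)],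
   [(5, 1), (7, -1), (8, -1), (12, 1), (14, -1), (16, -1), (20, 1), (21, 1), (22, 1), (28, 1), (30, -1), (31, 1), (32, -2), (33, 2), (36, 2), (37, 3), (38, -1), (39, -3), (40, -5), (41, -3), (42, -5), (43, 1), (44, -2), (45, 1), (46, 3), (47, 1), (48, -4), (49, 1), (50, 6), (51, 3), (52, 7), (53, 4), (54, 3), (55, 2)],
   [(4, 1), (5, 1), (7, -1), (8, -1), (12, 1), (14, -1), (15, -1), (19, -1), (20, 2), (21, 1), (22, 1), (25, -1), (28, 1), (29, 1), (30, -2), (31, 1), (33, 1), (34, -2), (37, 3), (39, -2), (40, -2), (41, -1), (42, -2), (47, 1), (48, -1), (50, 1), (51, 3), (52, 5), (53, 1), (54, 2)],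
   [(5, 2), (7, -1), (11, -1), (14, -1), (19, -1), (20, 2), (21, 1), (22, 1), (26, -1), (30, -1), (31, 2), (32, -3), (33, 2), (36, 1), (37, 4), (38, 1), (39, -3), (40, -4), (41, -3), (42, -4), (43, 1), (44, -2), (45, 2), (46, 4), (47, 1), (48, -1), (49, -1), (50, 5), (51, 2), (52, 7), (53, 2), (54, 3), (55, 3)],
   [(8, -1), (11, 1), (13, 1), (20, -1), (22, -1), (24, -1), (25, 1), (26, 1), (27, 1), (28, 1), (29, 1), (31, -3), (32, -1), (36, 1), (38, -2), (40, -3), (42, -1), (44, -1), (46, 1), (48, -2), (49, 2), (50, 1), (51, 1), (52, 3), (53, 2), (55, 1)],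
   [(8, -1), (10, -1), (11, 1), (12, 1), (24, -1), (25, 1), (26, 1), (27, 1), (28, 2), (29, 1), (31, -2), (32, -1), (33, 1), (35, -1), (36, 2), (38, -4), (39, -1), (40, -4), (41, -2), (42, -3), (43, -1), (44, -2), (46, 2), (47, -1), (48, -3), (49, 2), (50, 3), (51, 1), (52, 4), (53, 3), (54, -2), (55, 1)],
   [(8, -1), (9, 1), (12, 1), (14, -1), (20, 1), (21, 1), (24, -1), (28, 1), (29, 2), (30, -1), (32, -1), (33, 1), (34, -1), (35, -1), (37, 2), (38, -1), (39, -1), (40, -1), (41, -1), (42, -2), (43, -1), (44, -2), (46, 2), (48, -1), (49, 1), (50, 1), (51, 1), (52, 3), (53, 3), (54, -1), (55, 1)],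
   [(8, -2), (11, 1), (13, 1), (15, 1), (20, -1), (22, -2), (26, 1), (27, 1), (28, 1), (29, 2), (31, -4), (32, -1), (35, -1), (36, 3), (37, -1), (38, -3), (39, 1), (40, -3), (44, -1), (45, -1), (47, -1), (48, -2), (49, 3), (50, 1), (52, 2), (53, 2), (54, -1), (55, 1)],
   [(12, 1), (14, -1), (15, -1), (20, 1), (21, 1), (22, 1), (24, -1), (28, 1), (31, 1), (32, -2), (33, 2), (35, -1), (36, 2), (37, 3), (38, -1), (39, -3), (40, -5), (41, -4), (42, -5), (44, -3), (45, 2), (46, 5), (47, 1), (48, -4), (49, 1), (50, 7), (51, 3), (52, 7), (53, 4), (54, 2), (55, 2)],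
   [(15, -1), (20, 1), (21, 2), (23, -1), (29, 1), (32, -1), (33, 1), (35, -2), (36, 2), (37, 1), (38, -1), (39, -2), (40, -4), (41, -3), (42, -3), (43, 2), (44, -2), (45, 1), (46, 3), (47, 1), (48, -3), (49, 2), (50, 5), (51, 2), (52, 4), (53, 3), (54, 2), (55, 2)],
   [(12, 2), (13, -1), (14, -1), (15, -1), (20, 2), (21, 3), (22, 1), (23, -1), (25, -1), (27, -1), (30, -1), (31, 3), (32, -1), (33, 1), (34, -1), (35, -2), (36, 1), (37, 2), (38, 1), (39, -3), (40, -2), (41, -3), (42, -4), (43, 1), (44, -2), (45, 2), (46, 3), (47, 1), (48, -2), (49, 1), (50, 5), (51, 2), (52, 5), (53, 4), (54, 1), (55, 1)],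
   [(13, 1), (21, 1), (22, -1), (23, -1), (29, 1), (31, -1), (32, -1), (35, -1), (36, 2), (38, -1), (40, -3), (41, -1), (42, -1), (43, 1), (44, -1), (45, 1), (46, 1), (48, -2), (49, 2), (50, 3), (51, 1), (52, 3), (53, 2), (54, 1), (55, 2)],
   [(16, -1), (19, 1), (21, 1), (23, -1), (29, 1), (32, -3), (33, 2), (34, 2), (35, -2), (36, 3), (37, 2), (38, -2), (39, -3), (40, -6), (41, -4), (42, -5), (43, 2), (44, -4), (45, 3), (46, 5), (47, 2), (48, -4), (49, 2), (50, 8), (51, 2), (52, 6), (53, 6), (54, 2), (55, 3)],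
   [(16, -1), (18, -1), (19, 1), (21, 1), (31, 1), (33, 1), (36, 1), (37, 1), (38, -1), (39, -1), (40, -3), (41, -1), (42, -2), (43, 1), (44, -1), (47, 1), (48, -3), (49, 1), (50, 3), (51, 2), (52, 3), (53, 2), (54, 2), (55, 1)],
   [(16, -1), (17, 1), (21, 2), (23, -1), (29, 1), (32, -3), (33, 1), (34, 1), (35, -1), (36, 2), (37, 3), (39, -3), (40, -5), (41, -3), (42, -5), (43, 2), (44, -4), (45, 2), (46, 5), (47, 2), (48, -4), (49, 2), (50, 8), (51, 3), (52, 7), (53, 5), (54, 2), (55, 4)],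
   [(16, -2), (19, 1), (21, 2), (23, -1), (31, 1), (32, -2), (33, 1), (34, 2), (35, -1), (36, 3), (37, 2), (38, -1), (39, -3), (40, -6), (41, -3), (42, -5), (43, 3), (44, -2), (45, 1), (46, 3), (47, 2), (48, -5), (49, 2), (50, 8), (51, 3), (52, 6), (53, 6), (54, 3), (55, 3)],
   [(21, 1), (22, -1), (32, -2), (33, 1), (34, 1), (35, -1), (36, 2), (37, 1), (39, -1), (40, -3), (41, -2), (42, -2), (43, 1), (44, -2), (45, 1), (46, 3), (48, -1), (49, 1), (50, 4), (52, 3), (53, 2), (54, 1), (55, 2)],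
   [(21, 1), (23, -1), (32, -2), (33, 1), (34, 1), (35, -1), (36, 1), (37, 2), (39, -2), (40, -3), (41, -2), (42, -3), (43, 1), (44, -2), (45, 1), (46, 3), (48, -3), (49, 1), (50, 5), (51, 2), (52, 4), (53, 3), (54, 2), (55, 2)],
   [(20, 1), (21, 1), (23, -1), (35, -1), (36, 1), (37, 1), (38, -1), (39, -1), (40, -3), (41, -1), (42, -2), (43, 1), (44, -1), (46, 1), (47, 1), (48, -2), (49, 1), (50, 3), (51, 2), (52, 2), (53, 2), (54, 1), (55, 1)],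
   [(21, 2), (23, -1), (35, -1), (39, -1), (40, -1), (41, -1), (42, -1), (43, 1), (44, -1), (46, 1), (47, 1), (48, -1), (49, 1), (50, 2), (52, 1), (53, 1), (54, 1), (55, 1)],
   [(24, -1), (25, 1), (27, 1), (28, 1), (29, 2), (31, -2), (32, -2), (33, 1), (34, 1), (35, -1), (36, 1), (37, 2), (38, -2), (39, -2), (40, -3), (41, -2), (42, -3), (44, -1), (46, 3), (47, -1), (48, -2), (50, 2), (51, 1), (52, 4), (53, 2), (54, -1)],
   [(26, -1), (29, 1), (36, 1), (37, 1), (38, -1), (40, -2), (42, -1), (43, 1), (45, 1), (48, -2), (49, 1), (50, 2), (51, 2), (52, 2), (53, 1), (54, 1), (55, 1)],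
   [(25, 1), (29, 1), (31, -1), (32, -2), (33, 1), (34, 1), (35, -1), (36, 1), (37, 2), (38, -1), (39, -2), (40, -4), (41, -2), (42, -3), (43, 1), (44, -2), (45, 2), (46, 3), (48, -2), (49, 1), (50, 4), (51, 2), (52, 4), (53, 3), (54, 1), (55, 2)],
   [(24, -2), (25, 1), (26, 1), (27, 1), (28, 1), (29, 2), (30, 1), (31, -2), (35, -1), (36, 1), (37, 1), (38, -3), (39, -1), (40, -2), (41, -2), (42, -2), (43, -1), (44, -2), (45, -1), (46, 3), (47, -1), (48, -3), (49, 2), (50, 2), (51, 1), (52, 3), (53, 2), (54, -1)],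
   [(29, 1), (30, -1), (40, -1), (41, 1), (43, 1), (44, 1), (45, 1), (46, -1), (50, -1), (51, 1), (52, 1), (53, 1)],
   [(29, 1), (31, -1), (32, -2), (33, 1), (34, 1), (35, -1), (36, 2), (37, 1), (38, -1), (39, -1), (40, -2), (41, -2), (42, -2), (44, -2), (45, 1), (46, 3), (48, -1), (49, 1), (50, 3), (52, 3), (53, 2), (55, 1)],
   [(28, 1), (29, 1), (31, -1), (32, -2), (33, 1), (34, 1), (35, -1), (36, 2), (37, 1), (38, -1), (39, -1), (40, -4), (41, -2), (42, -3), (43, 1), (44, -2), (45, 2), (46, 3), (48, -2), (49, 1), (50, 4), (51, 2), (52, 4), (53, 3), (55, 1)],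
   [(29, 2), (31, -1), (35, -1), (38, -1), (50, -1), (54, -1)],
   [(32, -1), (33, 1), (36, 2), (37, 1), (38, -1), (39, -1), (40, -2), (41, -2), (42, -2), (44, -1), (46, 2), (47, -1), (48, -2), (49, 1), (50, 3), (51, 1), (52, 3), (53, 2)],
   [(32, -2), (33, 1), (36, 2), (37, 2), (39, -1), (40, -4), (41, -2), (42, -3), (43, 1), (44, -2), (45, 2), (46, 3), (48, -3), (49, 2), (50, 5), (51, 3), (52, 5), (53, 3), (54, 2), (55, 2)],
   [(32, -2), (33, 2), (34, 1), (35, -1), (36, 2), (37, 2), (38, -1), (39, -2), (40, -3), (41, -3), (42, -3), (44, -3), (45, 1), (46, 4), (48, -3), (49, 1), (50, 5), (51, 1), (52, 4), (53, 3), (54, 1), (55, 2)],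
   [(32, -4), (33, 2), (34, 2), (35, -1), (36, 2), (37, 2), (39, -2), (40, -3), (41, -3), (42, -3), (44, -3), (45, 2), (46, 5), (48, -1), (50, 5), (52, 4), (53, 3), (54, 1), (55, 2)],
   [(36, 1), (38, -1), (40, -2), (42, -1), (43, 1), (45, 1), (48, -2), (49, 1), (50, 2), (51, 2), (52, 2), (53, 2), (54, 1), (55, 1)],
   [(37, 1), (39, -1), (40, -2), (42, -1), (43, 1), (45, 1), (48, -1), (50, 1), (51, 2), (52, 1), (53, 1), (54, 1)],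
   [(36, 2), (38, -1), (40, -1), (41, -1), (42, -1), (44, -1), (46, 1), (48, -1), (49, 1), (50, 2), (52, 1), (53, 1)],
   [(37, 2), (39, -1), (40, -1), (41, -1), (42, -1), (44, -1), (46, 1), (48, -1), (50, 2), (51, 1), (52, 1), (54, 1)],
   [(40, -1), (43, 1), (45, 1), (48, -1), (49, 1), (50, 1), (51, 1), (52, 1), (53, 1), (54, 1), (55, 1)],
   [(40, -1), (42, -1), (43, 1), (44, 1), (51, 1), (52, 1)],
   [(40, -1), (41, 1), (44, 1), (46, -1), (48, -1), (51, 1)],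
   [(40, -2), (43, 1), (45, 1), (47, 1), (50, 1), (51, 1), (54, 1), (55, 1)],
   [(44, 1), (46, -1), (47, -1), (50, -1), (55, -1)],
   [(47, -1)],
   [(44, 2), (45, -1), (46, -1), (47, -1), (49, -1), (50, -1), (53, -1), (55, -1)],
   [(45, 1)],
   [(48, -1), (49, 1), (51, 1), (52, 1), (53, 1)],
   [(50, -1)],
   [(49, 1)],
   [(48, -2), (49, 1), (50, 1), (51, 1), (52, 1), (53, 1), (54, 1), (55, 1)],
   [(54, -1)],
   [(55, -1)],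
   [(52, 1)],
   [(53, 1)]]

def opCert2 : List (List (ℕ × ℤ)) :=
  [[(3, -1), (5, 1), (11, -1), (15, 1), (16, -1), (17, 1), (25, 1), (31, 1), (32, -1), (34, -1), (35, 1), (36, 1), (37, 1), (38, 1), (40, -2), (41, -1), (42, -2), (44, -2), (45, 1), (46, 1), (48, -1), (49, 1), (50, 2), (51, 1), (52, 3), (53, 2), (54, 1), (55, 4)],
   [(3, -1), (4, -1), (7, 1), (8, -1), (10, -1), (11, 1), (13, 1), (14, 1), (15, 2), (16, -1), (19, 1), (20, -2), (21, -2), (22, -2), (24, -1), (25, 2), (26, 1), (27, 1), (28, 1), (29, 1), (30, 2), (31, -3), (33, -1), (36, 2), (37, -2), (38, -4), (39, 4), (40, -2), (41, 1), (42, -1), (43, -2), (45, -3), (46, -1), (47, -2), (48, -4), (49, 3), (50, 1), (53, 2), (54, -2), (55, 3)],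
   [(3, -1), (6, 1), (8, -1), (15, 1), (21, -1), (22, -1), (23, 1), (24, -1), (25, 1), (26, 1), (27, 1), (29, 1), (30, 1), (31, -2), (35, -1), (38, -2), (42, -1), (43, -1), (44, -1), (45, -1), (46, 1), (48, -1), (49, 1), (50, -1), (53, 1), (54, -1), (55, 1)],
   [(3, -1), (7, 1), (10, -1), (14, 1), (15, 1), (17, 1), (20, -1), (21, -1), (22, -1), (25, 1), (27, -1), (30, 1), (32, -1), (34, -1), (36, 1), (37, -1), (39, 3), (40, -2), (43, -1), (44, -1), (45, 1), (47, -1), (48, -1), (49, 2), (50, 2), (53, 1), (55, 5)],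
   [(1, 1), (3, -1), (8, -1), (15, 1), (18, -1), (21, -1), (23, 1), (27, -1), (31, 1), (33, 1), (34, -2), (35, 1), (36, 1), (39, 3), (41, 1), (43, -2), (44, -1), (45, -1), (46, -1), (49, 1), (55, 1)],
   [(0, -1), (3, -1), (7, 1), (10, -1), (11, 1), (14, 1), (15, 2), (16, -1), (19, 1), (20, -1), (21, -1), (22, -2), (23, -1), (25, 1), (27, 1), (28, 1), (30, 1), (31, -2), (33, -1), (36, 1), (37, -1), (38, -2), (39, 3), (40, -1), (41, 1), (42, -1), (43, -2), (45, -2), (46, -1), (47, -1), (48, -2), (49, 1), (50, 1), (51, 1), (52, -1), (53, 1), (54, -1), (55, 2)],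
   [(2, -1), (3, -1), (7, 1), (8, -1), (10, -1), (11, 1), (13, 1), (14, 1), (15, 2), (16, -1), (18, -1), (19, 2), (20, -2), (21, -2), (22, -2), (25, 2), (26, 1), (28, 1), (29, 1), (30, 1), (31, -3), (35, -1), (36, 2), (37, -2), (38, -5), (39, 4), (40, -3), (41, 1), (42, -1), (43, -2), (44, -2), (45, -2), (46, -1), (47, -1), (48, -4), (49, 4), (50, 2), (51, 1), (53, 3), (55, 4)],
   [(3, -2), (7, 1), (14, 1), (15, 1), (16, -1), (17, 1), (18, -1), (19, 1), (20, -1), (21, -1), (22, -1), (25, 1), (26, 1), (30, 1), (32, -1), (36, 2), (38, -1), (39, 2), (40, -3), (41, -1), (42, -2), (43, -1), (44, -3), (45, 1), (46, 1), (48, -2), (49, 3), (50, 4), (51, 2), (52, 1), (53, 3), (55, 4)],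
   [(8, -1), (13, 1), (15, 1), (19, -1), (20, -1), (21, -1), (22, -1), (23, 1), (24, -1), (25, 1), (26, 1), (27, 1), (28, 1), (29, 1), (30, 1), (31, -3), (37, -1), (38, -2), (39, 1), (41, 1), (42, 1), (43, -2), (45, -2), (47, -1), (48, -2), (49, 1), (50, -2), (54, -1), (55, 1)],
   [(8, -1), (10, -1), (11, 1), (12, -1), (13, 1), (14, 1), (15, 2), (20, -2), (21, -2), (22, -2), (25, 1), (27, 1), (28, 1), (29, 1), (30, 1), (31, -4), (32, -1), (35, 1), (36, 2), (37, -2), (38, -3), (39, 4), (40, -2), (41, 2), (42, 1), (43, -2), (45, -2), (46, -1), (47, -1), (49, 1), (50, -2), (51, -1), (52, -1), (53, -1), (54, -2), (55, 1)],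
   [(10, -1), (14, 1), (15, 1), (16, -1), (17, 1), (18, -1), (20, -1), (25, 1), (27, -1), (31, 1), (35, 1), (36, 1), (37, -1), (38, -1), (39, 2), (40, -1), (41, 1), (43, -1), (44, -1), (45, -1), (46, -1), (48, -2), (49, 2), (50, 1), (52, 1), (53, 2), (55, 3)],
   [(15, 1), (16, -1), (17, 1), (18, -1), (19, -1), (20, -1), (23, 1), (27, -1), (31, 1), (32, -1), (34, -1), (35, 3), (36, 1), (38, 2), (39, 2), (40, -1), (41, 1), (47, 1), (49, 1), (51, 1), (52, 2), (53, 1), (54, 1), (55, 3)],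
   [(8, -1), (9, 1), (10, -1), (15, 1), (24, -1), (25, 1), (27, 1), (28, 1), (29, 1), (31, -1), (33, 1), (34, -2), (37, -1), (38, -2), (39, 2), (42, -1), (43, -2), (44, -1), (45, -2), (46, 1), (48, -1), (49, 2), (50, -2), (52, 1), (53, 2), (54, -2), (55, 2)],
   [(8, -2), (11, 1), (13, 1), (15, 1), (16, -1), (17, 1), (18, -1), (19, -1), (20, -2), (21, -1), (22, -1), (23, 2), (26, 1), (28, 1), (29, 1), (31, -2), (32, -1), (34, -1), (35, 3), (36, 2), (37, -1), (39, 3), (40, -2), (41, 2), (45, -1), (46, -1), (47, 1), (48, -1), (49, 2), (51, 2), (52, 2), (53, 2), (55, 3)],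
   [(10, -2), (11, 1), (14, 1), (15, 1), (16, -1), (17, 1), (18, -1), (19, -1), (20, -1), (25, 1), (28, 1), (32, -1), (34, -1), (35, 3), (36, 2), (37, -1), (38, -1), (39, 3), (40, -3), (41, 1), (42, -1), (43, -1), (44, -1), (45, -1), (47, 1), (48, -2), (49, 2), (50, 1), (51, 2), (52, 3), (53, 3), (54, -1), (55, 4)],
   [(11, -1), (16, -1), (17, 1), (18, -1), (19, -1), (21, 1), (22, 1), (23, 1), (27, -1), (31, 2), (32, -1), (33, 1), (34, -1), (35, 2), (36, 1), (37, 1), (38, 2), (40, -3), (41, -1), (42, -2), (43, 1), (44, -2), (45, 1), (46, 2), (47, 3), (48, -2), (49, 2), (50, 4), (51, 3), (52, 4), (53, 3), (54, 3), (55, 5)],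
   [(16, -1), (21, 1), (27, -1), (31, 1), (32, -1), (33, 1), (36, 1), (37, 1), (38, 1), (40, -2), (41, -1), (42, -2), (44, -2), (46, 2), (47, 2), (48, -3), (49, 3), (50, 4), (51, 1), (52, 3), (53, 3), (54, 2), (55, 4)],
   [(17, 1), (19, -1), (20, -1), (23, 1), (32, -1), (35, 1), (38, 2), (41, 1), (42, -1), (45, 1), (46, 1), (47, 1), (51, 1), (52, 1), (53, 1), (55, 2)],
   [(18, -1), (19, -1), (22, 1), (23, 1), (27, -1), (31, 1), (33, 1), (39, 1), (43, -1), (44, -1), (46, 1), (47, 1), (48, -1), (49, 1), (51, 1), (52, 1), (53, 1), (54, 1), (55, 2)],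
   [(19, -1), (23, 1), (34, -1), (35, 1), (38, 1), (39, 1), (41, 1), (42, -1), (46, 1), (47, 2), (49, 1), (51, 1), (52, 1), (53, 1), (55, 2)],
   [(17, 2), (19, -2), (20, -1), (23, 1), (33, -1), (34, -2), (35, 3), (37, -1), (38, 3), (39, 2), (41, 2), (42, 1), (43, 1), (44, 1), (45, 1), (46, -1), (47, 1), (48, 2), (50, -2), (51, 1), (53, -1), (54, -1), (55, 2)],
   [(16, -2), (21, 1), (31, 1), (34, 1), (36, 1), (37, 1), (39, -1), (40, -3), (42, -2), (43, 2), (44, -1), (46, 1), (47, 3), (48, -2), (49, 1), (50, 3), (51, 2), (52, 2), (53, 3), (54, 2), (55, 3)],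
   [(18, -2), (22, 1), (23, 1), (31, 1), (33, 1), (34, -1), (35, 1), (36, 1), (38, -1), (39, 1), (40, -1), (42, -1), (43, -1), (44, -2), (46, 1), (47, 2), (48, -1), (49, 1), (50, 1), (51, 1), (52, 1), (53, 2), (54, 1), (55, 1)],
   [(19, -2), (23, 1), (35, 1), (38, 1), (40, 1), (41, 1), (42, 1), (44, 1), (45, -1), (48, 1), (49, -1), (50, -2), (53, -1), (54, -1)],
   [(24, -1), (25, 1), (27, -1), (29, 1), (30, 1), (35, -1), (38, -1), (39, 1), (40, -1), (42, -2), (44, -1), (46, 2), (47, 1), (48, -2), (49, 2), (50, 2), (51, 1), (52, 1), (53, 2), (54, 1), (55, 2)],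
   [(27, -1), (28, -1), (31, 1), (34, -1), (38, 1), (39, 1), (40, -1), (41, 1), (45, 1), (47, 2), (49, 1), (51, 1), (53, 1), (54, 2), (55, 3)],
   [(27, -1), (30, 1), (35, -1), (39, 1), (40, -2), (42, -1), (44, -1), (45, 1), (46, 1), (47, 2), (48, -1), (49, 1), (50, 2), (51, 1), (53, 1), (54, 2), (55, 2)],
   [(27, -1), (31, 1), (34, -1), (38, 1), (39, 1), (49, 1), (54, 1), (55, 1)],
   [(25, 1), (27, -1), (40, -2), (42, -1), (44, -1), (45, 1), (46, 1), (47, 2), (48, -2), (49, 2), (50, 2), (51, 1), (52, 1), (53, 2), (54, 2), (55, 3)],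
   [(24, -2), (25, 1), (26, 1), (28, 1), (29, 1), (30, 1), (31, -1), (34, -1), (38, -1), (39, 1), (40, -1), (41, -1), (42, -1), (43, -1), (44, -1), (45, -1), (46, 2), (47, -1), (48, -2), (49, 2), (50, 1), (51, 1), (52, 2), (53, 1), (55, 1)],
   [(26, -1), (27, -1), (31, 1), (34, -1), (35, 1), (38, 1), (39, 2), (40, -1), (41, 1), (45, 1), (47, 2), (48, -1), (49, 2), (50, 1), (51, 1), (53, 1), (54, 2), (55, 3)],
   [(27, -2), (31, 1), (38, 1), (39, 1), (49, 1), (50, 1), (54, 1), (55, 1)],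
   [(32, -1), (33, 1), (34, -1), (37, 1), (38, 1), (40, -2), (41, -1), (42, -2), (43, 1), (44, -1), (45, 1), (46, 2), (47, 1), (48, -2), (49, 2), (50, 3), (51, 2), (52, 3), (53, 2), (54, 2), (55, 3)],
   [(34, -1), (36, -1), (38, 1), (39, 1), (40, -1), (41, 1), (45, 1), (47, 2), (48, -1), (49, 1), (51, 2), (53, 1), (54, 2), (55, 3)],
   [(34, -1), (38, 1), (39, 1), (49, 1), (55, 1)],
   [(39, 1)],
   [(33, 1), (34, -1), (40, -2), (42, -1), (44, -1), (45, 1), (46, 1), (47, 2), (48, -1), (49, 1), (50, 1), (51, 1), (52, 1), (53, 1), (54, 1), (55, 3)],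
   [(32, -2), (33, 1), (34, 1), (35, -1), (36, 1), (37, 1), (39, -1), (40, -3), (41, -1), (42, -2), (44, -2), (45, 2), (46, 3), (47, 2), (48, -2), (49, 1), (50, 4), (51, 1), (52, 2), (53, 3), (54, 2), (55, 3)],
   [(34, -2), (35, 1), (38, 1), (39, 1), (49, 1), (51, 1), (52, 1), (55, 1)],
   [(35, -1)],
   [(40, -1), (45, 1), (47, 1), (54, 1), (55, 1)],
   [(40, -1), (42, -1), (43, 1), (44, -1), (45, 1), (46, 1), (47, 2), (49, 1), (50, 1), (51, 1), (53, 1), (54, 1), (55, 1)],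
   [(42, -1), (46, 1), (47, 1), (48, -1), (49, 1), (50, 1), (51, 1), (52, 1), (53, 1), (54, 1), (55, 1)],
   [(47, 1)],
   [(40, -1), (41, 1), (42, -1), (47, 1), (48, -1), (50, 1), (51, 1), (53, 1), (54, 1), (55, 1)],
   [(40, -2), (43, 1), (45, 1), (47, 1), (50, 1), (51, 1), (54, 1), (55, 1)],
   [(42, -2), (43, 1), (46, 1), (47, 1), (50, 1), (51, 1), (52, 1), (53, 1)],
   [(43, -1)],
   [(48, -1), (49, 1), (53, 1), (54, 1), (55, 1)],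
   [(52, -1)],
   [(54, 1)],
   [(55, 1)],
   [(49, 1)],
   [(48, -2), (49, 1), (50, 1), (51, 1), (52, 1), (53, 1), (54, 1), (55, 1)],
   [(50, -1)],
   [(51, -1)]]

def opCert3 : List (List (ℕ × ℤ)) :=
  [[(0, -1), (11, 1), (15, 1), (22, -1), (23, -1), (31, -1), (33, -1), (34, 1), (39, 1), (41, 1), (42, 1), (43, -1), (44, 1), (45, -1), (46, -1), (47, -1), (49, -1), (50, -1), (51, -1), (52, -2), (53, -1), (55, -1)],
   [(1, -1), (13, 1), (14, 1), (20, -1), (22, -1), (31, -1), (33, -1), (34, 1), (35, 1), (36, 1), (37, -1), (39, 2), (41, 1), (42, 1), (44, 1), (45, -1), (46, -2), (47, -1), (51, -1), (52, -1), (53, -1)],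
   [(2, -1), (11, 1), (13, 1), (19, 1), (20, -1), (21, -1), (22, -1), (31, -1), (37, -1), (38, -1), (39, 3), (41, 1), (42, 1), (43, -1), (44, 1), (46, -2), (47, -1), (50, -1), (51, -1), (52, -1), (53, -1)],
   [(3, -1), (14, 1), (15, 1), (19, 1), (21, -1), (22, -1), (23, -1), (31, -1), (36, 1), (38, -1), (39, 2), (40, -1), (43, -1), (45, -1), (46, -1), (47, -2), (48, -1), (50, 1), (52, -1), (53, -1)],
   [(4, -1), (13, 1), (15, 1), (19, 1), (20, -1), (21, -1), (31, -1), (33, -1), (34, 1), (35, 1), (37, -1), (39, 2), (41, 1), (42, 1), (43, -1), (44, 1), (46, -2), (47, -1), (49, -1), (50, -1), (51, -1), (52, -2), (53, -1), (55, -1)],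
   [(5, -1), (11, 1), (14, 1), (19, 1), (20, -1), (22, -1), (23, -1), (31, -1), (34, 1), (36, 1), (37, -1), (38, -1), (39, 1), (40, -1), (46, -1), (47, -1), (48, -1), (49, 1), (50, 1), (51, -1), (52, -1)],
   [(6, -1), (11, 1), (13, 1), (14, 1), (15, 1), (20, -2), (21, -1), (22, -1), (23, -1), (31, -2), (33, -1), (35, 1), (36, 1), (37, -2), (38, -1), (39, 4), (41, 2), (42, 2), (43, -1), (44, 2), (45, -1), (46, -3), (47, -2), (50, -2), (51, -1), (52, -2), (53, -2), (54, -1)],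
   [(7, -1), (20, 1), (21, 1), (22, 1), (23, -1), (33, 1), (37, 1), (38, -1), (39, -1), (40, -2), (41, -2), (42, -2), (44, -2), (46, 2), (47, 1), (48, -2), (50, 3), (51, 1), (52, 1), (53, 1), (54, 1), (55, 1)],
   [(8, 1), (26, -1), (27, -1), (28, -1), (29, -1), (31, 2), (35, 1), (38, 1), (39, 1), (44, 1), (45, 1), (49, -1), (50, 1), (53, -1), (54, 1), (55, 1)],
   [(9, 1), (26, -1), (27, -1), (30, -1), (31, 1), (35, 1), (38, 1), (39, 1), (40, 1), (42, 1), (43, -1), (46, -1), (47, -1), (48, 1), (49, 1), (50, -1), (51, -1), (52, -1), (55, 1)],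
   [(10, 1), (25, -1), (27, -1), (28, -1), (38, 1), (39, 1), (43, 1), (44, 1), (45, 1), (50, 1), (51, 1), (52, -1), (53, -1), (54, 2)],
   [(11, 1), (31, -1), (40, -1), (43, -1), (48, -1), (52, -1)],
   [(12, 1), (25, -1), (27, -1), (29, -1), (30, -1), (31, 2), (35, 1), (38, 2), (39, 1), (40, 1), (41, 1), (43, -1), (44, 1), (46, -2), (47, -1), (49, -1)],
   [(13, 1), (31, -1), (40, -1), (43, -1), (45, -1), (46, -1), (48, -1), (49, -1), (50, 1), (53, -1), (54, 1), (55, 1)],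
   [(14, 1), (31, -1), (40, -1), (45, -1), (46, -1), (47, -1), (48, -1), (50, 1), (51, 1), (52, -1), (53, -1), (55, 1)],
   [(15, 1), (31, -1), (40, -1), (43, -1), (45, -1), (47, -1), (48, -1), (49, -1), (52, -1), (53, -1)],
   [(16, 1), (31, -1), (41, -1), (43, -1), (44, -1), (45, 1), (46, 1), (47, -1), (50, 1), (51, -1), (52, -1), (53, -1), (55, -1)],
   [(17, 1), (40, -1), (42, -1), (44, -1), (45, 1), (49, -1), (50, 1), (55, 1)],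
   [(18, 1), (31, -1), (40, -1), (41, -1), (42, -1), (43, 1), (45, 1), (46, 1), (48, -1), (49, 1), (50, 1), (55, 1)],
   [(19, 1), (40, -1), (41, -1), (42, -1), (44, -1), (45, 1), (48, -1), (49, 1), (50, 2), (53, 1), (54, 1)],
   [(20, 1), (43, -1), (45, -1), (49, -1), (52, -1)],
   [(21, 1), (40, -1), (41, -1), (42, -1), (43, 1), (44, -1), (46, 1), (47, 1), (48, -1), (49, 1), (50, 2), (52, 1), (53, 1), (54, 1), (55, 1)],
   [(22, 1), (40, -1), (41, -1), (42, -1), (44, -1), (45, 1), (46, 1), (47, 1), (48, -1), (50, 1), (51, 1), (53, 1)],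
   [(23, 1)],
   [(24, -1), (35, 1), (39, 1)],
   [(25, -1), (38, 1), (39, 1)],
   [(26, -1), (35, 1), (39, 1)],
   [(27, -1), (38, 1), (39, 1)],
   [(28, -1)],
   [(29, -1), (35, 1), (38, 1)],
   [(30, -1), (35, 1), (38, 1)],
   [(31, -1)],
   [(32, 1), (45, -1), (46, -1), (48, -1), (52, -1), (53, -1), (55, -1)],
   [(33, 1), (40, -1), (41, -1), (42, -1), (44, -1), (46, 1), (48, -1), (50, 1), (52, 1), (55, 1)],
   [(34, 1), (49, -1), (51, -1), (52, -1), (55, -1)],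
   [(35, 1)],
   [(36, 1), (40, -1), (41, -1), (42, -1), (44, -1), (46, 1), (48, -1), (49, 1), (50, 2), (52, 1), (53, 1)],
   [(37, 1), (40, -1), (41, -1), (42, -1), (44, -1), (46, 1), (48, -1), (50, 2), (51, 1), (52, 1), (54, 1)],
   [(38, 1)],
   [(39, 1)],
   [(40, -1)],
   [(41, -1)],
   [(42, -1)],
   [(43, -1)],
   [(44, -1)],
   [(45, -1)],
   [(46, -1)],
   [(47, -1)],
   [(48, -1)],
   [(49, -1)],
   [(50, -1)],
   [(51, -1)],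
   [(52, -1)],
   [(53, -1)],
   [(54, -1)],
   [(55, -1)]]

def opCert4 : List (List (ℕ × ℤ)) :=
  [[(3, 1), (12, 1), (14, -1), (15, -1), (20, 1), (21, 1), (22, 1), (25, -1), (31, 1), (32, 1), (34, -1), (35, -1), (36, -1), (39, -1), (40, 1), (47, 1), (49, -1), (50, -1), (55, -1)],
   [(5, 1), (6, 1), (7, -1), (11, -1), (14, -1), (17, 1), (18, 1), (19, -1), (20, 1), (21, 1), (22, 1), (27, 1), (32, 1), (33, -1), (34, -1), (35, 1), (36, -2), (37, 1), (38, 2), (39, -2), (43, 1), (45, 1), (46, -1), (47, 2), (48, 1), (49, -2), (50, -2), (53, -2)],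
   [(3, 1), (5, 1), (7, -1), (14, -1), (17, 1), (18, 1), (19, -2), (21, 1), (22, 1), (26, -1), (30, -1), (31, 1), (32, 1), (33, -1), (34, -1), (35, 2), (36, -2), (38, 3), (39, -1), (40, 1), (41, 3), (42, 2), (43, 1), (44, 3), (46, -2), (47, 1), (48, 2), (49, -3), (50, -5), (51, -1), (52, -1), (53, -3)],
   [(6, 1), (12, 1), (13, -1), (14, -1), (15, -1), (17, 1), (18, 1), (19, -1), (20, 1), (21, 1), (22, 1), (23, 1), (31, 1), (32, 1), (33, -1), (34, -1), (36, -2), (37, 2), (38, 2), (39, -3), (40, 1), (42, -1), (44, -1), (45, 1), (47, 2), (49, -1), (50, -1), (51, 1), (54, -1)],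
   [(5, 1), (15, 1), (17, 1), (19, -1), (20, -1), (21, -1), (23, 1), (27, 1), (30, 1), (31, -1), (33, -1), (34, -1), (35, 2), (37, -1), (39, 1), (41, 2), (42, 1), (43, -1), (44, 1), (46, -2), (47, -1), (48, 1), (49, -2), (50, -3), (52, -1), (53, -2), (54, -2)],
   [(3, 1), (6, 1), (7, -1), (14, -1), (15, -1), (18, 1), (19, -1), (20, 1), (21, 1), (22, 1), (27, 1), (31, -1), (32, 1), (36, -2), (37, 1), (38, 1), (39, -3), (43, 1), (47, 2), (49, -2), (50, -2), (53, -1), (55, -1)],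
   [(3, 1), (5, 1), (6, 1), (7, -1), (11, -1), (14, -1), (15, -1), (19, -1), (20, 2), (21, 1), (22, 2), (23, 1), (26, -1), (30, -1), (31, 2), (33, 1), (35, 1), (36, -1), (37, 3), (38, 1), (39, -4), (40, -1), (41, -1), (42, -1), (44, -1), (46, 1), (47, 2), (49, -3), (52, 2), (53, -1), (54, 2)],
   [(12, 1), (27, 1), (37, 1), (38, -1), (39, -1), (43, -1), (44, 1), (45, -1), (46, -1), (47, -2), (48, -1), (49, -2), (50, -1), (53, -1), (54, -1), (55, -1)],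
   [(0, 1), (3, 1), (5, 1), (7, -1), (11, -1), (14, -1), (18, 1), (19, -1), (20, 1), (21, 1), (22, 1), (26, -1), (30, -1), (31, 1), (32, 1), (34, -1), (35, 1), (36, -2), (38, 1), (39, -1), (40, 1), (41, 2), (42, 1), (43, 1), (44, 2), (46, -1), (47, 1), (48, 1), (49, -2), (50, -4), (51, -1), (53, -2)],
   [(1, 1), (3, 1), (5, 1), (6, 1), (7, -2), (11, -1), (13, -1), (14, -2), (15, -1), (18, 1), (19, -1), (20, 3), (21, 2), (22, 3), (25, -1), (26, -1), (30, -1), (31, 2), (33, 2), (34, -1), (36, -2), (37, 4), (38, 2), (39, -5), (40, -2), (41, -3), (42, -3), (43, 1), (44, -1), (45, 1), (46, 3), (47, 3), (49, -3), (50, 1), (51, 1), (52, 4), (53, -1), (54, 3), (55, -1)],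
   [(2, 1), (3, 1), (6, 1), (7, -1), (11, -1), (12, 1), (13, -1), (14, -1), (15, -1), (17, 1), (19, -1), (20, 2), (21, 2), (22, 2), (23, 1), (25, -1), (26, -1), (29, -1), (30, -2), (31, 4), (32, 1), (34, -1), (35, 2), (36, -2), (37, 1), (38, 3), (39, -3), (40, 2), (41, 1), (42, -1), (43, 1), (44, 2), (46, -2), (47, 3), (48, 2), (49, -4), (50, -3), (52, 1), (53, -1), (55, -2)],
   [(3, 2), (7, -1), (12, 1), (14, -1), (19, -1), (21, 1), (22, 1), (23, 1), (25, -1), (26, -1), (32, 1), (33, -1), (34, -1), (35, 2), (36, -2), (38, 1), (40, 2), (41, 3), (42, 2), (44, 4), (45, -2), (46, -3), (48, 1), (49, -4), (50, -5), (52, -1), (53, -3), (55, -3)],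
   [(4, 1), (5, 1), (6, 1), (7, -1), (11, -1), (13, -1), (14, -1), (15, -1), (17, 1), (19, -1), (20, 2), (21, 2), (22, 2), (27, 1), (31, 1), (33, 1), (34, -1), (36, -1), (37, 2), (38, 1), (39, -4), (40, -1), (41, -2), (42, -3), (44, -3), (45, 1), (46, 3), (47, 3), (49, -2), (50, 1), (51, 1), (52, 3), (53, 1)],
   [(5, 2), (7, -1), (11, -1), (12, 1), (14, -1), (15, 1), (19, -1), (20, 1), (22, 1), (23, 1), (26, -1), (31, 1), (32, 1), (33, -1), (34, -2), (35, 2), (36, -2), (37, 2), (38, 1), (40, 1), (41, 2), (43, -1), (44, 2), (45, -1), (46, -3), (47, -1), (48, 1), (49, -4), (50, -3), (51, 1), (53, -3), (55, -1)],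
   [(6, 2), (7, -1), (11, -1), (12, 1), (13, -1), (14, -1), (20, 2), (21, 1), (22, 1), (23, 1), (28, -1), (31, 1), (32, 1), (34, -1), (36, -2), (37, 3), (38, 1), (39, -3), (40, 1), (41, -1), (42, -2), (43, -1), (45, -1), (47, 1), (49, -3), (50, -1), (51, 1), (52, 1), (53, -1), (55, -2)],
   [(7, 1), (12, 1), (15, 1), (20, -1), (21, -1), (22, -1), (23, 1), (30, 1), (31, -1), (32, 1), (33, -2), (34, -1), (35, 1), (36, -1), (39, 2), (40, 2), (41, 3), (42, 2), (43, -2), (44, 3), (45, -2), (46, -4), (47, -3), (49, -2), (50, -4), (52, -3), (53, -3), (54, -2), (55, -2)],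
   [(8, 1), (27, 1), (30, 1), (31, -1), (38, -1), (40, -1), (42, -1), (44, 1), (48, -1), (49, -2), (51, 1), (53, -1), (54, -1), (55, -1)],
   [(9, 1), (12, 1), (13, -1), (14, -1), (20, 1), (21, 1), (22, 1), (27, -1), (30, -1), (31, 2), (32, 1), (34, -1), (36, -1), (38, 1), (40, 1), (41, 1), (43, -1), (46, -1), (50, -2), (52, -1), (53, 1), (54, -1)],
   [(10, 1), (15, 1), (20, -1), (21, -1), (22, -1), (23, 1), (27, 1), (31, -1), (32, 1), (33, -1), (35, 1), (36, -1), (37, -1), (39, 1), (40, 2), (41, 2), (42, 3), (44, 4), (45, -1), (46, -3), (47, -3), (48, 1), (49, -2), (50, -5), (51, -1), (52, -3), (53, -4), (54, -1), (55, -3)],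
   [(11, 1), (15, 1), (20, -1), (21, -1), (22, -1), (27, 1), (30, 1), (31, -2), (32, 1), (33, -1), (35, 1), (37, -1), (38, -1), (39, 2), (40, 1), (41, 2), (42, 2), (43, -1), (44, 3), (45, -2), (46, -3), (47, -2), (49, -2), (50, -4), (51, -1), (52, -3), (53, -3), (54, -2), (55, -3)],
   [(12, 2), (13, -1), (14, -1), (20, 1), (21, 1), (22, 1), (25, -1), (29, -1), (31, 2), (34, -1), (36, -1), (37, 2), (38, 1), (39, -2), (42, -2), (43, -1), (48, -1), (49, -2), (50, 1), (51, 2), (52, 1), (53, 1), (55, -1)],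
   [(13, 1), (15, 1), (20, -1), (21, -1), (22, -1), (27, 1), (31, -1), (32, 1), (33, -1), (35, 1), (38, -1), (39, 1), (40, 1), (41, 2), (42, 2), (43, -1), (44, 2), (45, -2), (46, -3), (47, -2), (49, -2), (50, -3), (51, -1), (52, -2), (53, -3), (54, -1), (55, -2)],
   [(14, 1), (15, 1), (20, -1), (21, -1), (22, -1), (30, 1), (31, -1), (32, 1), (33, -1), (35, 1), (37, -1), (38, -1), (39, 2), (40, 1), (41, 3), (42, 3), (43, -2), (44, 3), (45, -3), (46, -4), (47, -3), (49, -2), (50, -4), (51, -1), (52, -4), (53, -4), (54, -2), (55, -2)],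
   [(15, 2), (20, -1), (21, -1), (22, -1), (31, -1), (33, -1), (35, 1), (37, -1), (39, 2), (40, 1), (41, 2), (42, 2), (43, -1), (44, 2), (45, -1), (46, -2), (47, -2), (48, 1), (49, -1), (50, -3), (51, -1), (52, -2), (53, -2), (54, -1), (55, -1)],
   [(16, 1), (17, 1), (18, 1), (19, -1), (27, 1), (31, -1), (32, 1), (33, -1), (34, -1), (36, -1), (37, -1), (38, 1), (40, 1), (41, 2), (42, 2), (43, -1), (44, 2), (46, -2), (47, -1), (48, 1), (49, -2), (50, -4), (51, -1), (52, -3), (53, -3), (54, -2), (55, -1)],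
   [(17, 2), (19, -1), (20, -1), (23, 1), (30, 1), (32, 1), (33, -1), (34, -1), (35, 2), (38, 1), (39, 1), (41, 1), (42, 1), (46, -1), (47, -1), (49, -1), (50, -1), (52, -1), (53, -2), (54, -1)],
   [(18, 2), (19, -1), (22, -1), (27, 1), (31, -1), (32, 1), (33, -1), (36, -1), (37, 1), (38, 1), (39, -1), (40, 1), (41, 1), (42, 2), (44, 2), (45, -1), (46, -1), (47, -1), (49, -1), (50, -3), (51, -1), (52, -2), (53, -3), (54, -1), (55, -1)],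
   [(19, 1), (30, 1), (35, -1), (38, -1), (40, -1), (43, -1), (44, -1), (48, -1), (50, 1), (52, -1)],
   [(20, 1), (32, 1), (37, 1), (38, -1), (43, -1), (45, -1), (48, -1), (49, -1), (52, -1), (53, -1), (55, -1)],
   [(21, 1), (27, 1), (30, 1), (31, -1), (35, -1), (38, -1), (39, -1), (40, -1), (41, -1), (44, -1), (46, 1), (48, -1), (50, 1)],
   [(22, 1), (27, 1), (30, 1), (31, -1), (32, 1), (37, 1), (38, -2), (39, -1), (40, -1), (42, -1), (43, -1), (45, -1), (48, -2), (49, -2), (51, 1), (52, -1), (53, -1), (54, -1), (55, -2)],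
   [(23, 1)],
   [(24, 1), (30, 1), (31, -1), (35, -1), (37, 1), (39, -1), (40, -1), (41, -1), (42, -1), (48, -1), (49, -1), (50, 1), (51, 1), (53, -1), (55, -1)],
   [(25, 1), (27, 1), (30, 1), (31, -1), (32, 1), (37, 1), (38, -2), (39, -1), (40, -1), (43, -1), (44, -1), (45, -1), (47, -1), (48, -2), (49, -1), (52, -1), (53, -1), (54, -1), (55, -1)],
   [(26, 1), (27, 1), (30, 1), (31, -1), (35, -1), (38, -1), (39, -1), (40, -1), (42, -1), (45, -1), (48, -1), (49, -1), (51, 1), (54, -1), (55, -1)],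
   [(27, 2), (31, -1), (38, -1), (39, -1), (49, -1), (50, -1), (54, -1), (55, -1)],
   [(28, 1), (30, 1), (31, -1), (32, 1), (37, 1), (38, -1), (40, -1), (41, -1), (42, -1), (44, -1), (45, -1), (46, 1), (48, -2), (50, 2), (51, 1), (53, -1), (55, -1)],
   [(29, 1), (32, 1), (37, 1), (38, -1), (41, 1), (43, -1), (45, -1), (46, -1), (48, -1), (49, -1), (50, -1), (52, -1), (53, -1), (54, -1), (55, -1)],
   [(30, 2), (31, -1), (35, -1), (38, -1), (40, -1), (41, -1), (42, -1), (44, -1), (46, 1), (48, -1), (50, 2), (51, 1)],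
   [(31, 1)],
   [(32, 2), (33, -1), (34, -1), (35, 1), (36, -1), (39, 1), (40, 1), (41, 1), (42, 2), (44, 1), (45, -1), (46, -2), (50, -2), (52, -2), (53, -2), (55, -1)],
   [(33, 1), (37, 1), (39, -1), (40, -1), (43, -1), (45, -1), (47, -1), (48, -1), (49, -1), (53, -1)],
   [(34, 1), (42, 1), (44, 1), (46, -1), (47, -1), (49, -1), (50, -1), (51, -1), (52, -1), (53, -1), (55, -1)],
   [(35, 1)],
   [(36, 1), (37, 1), (40, -1), (43, -1), (44, -1), (48, -1), (50, 1)],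
   [(37, 2), (39, -1), (40, -1), (41, -1), (42, -1), (44, -1), (46, 1), (48, -1), (50, 2), (51, 1), (52, 1), (54, 1)],
   [(38, 1)],
   [(39, 1)],
   [(40, 1), (41, 1), (42, 1), (43, -1), (44, 1), (45, -1), (46, -1), (47, -1), (49, -1), (50, -2), (51, -1), (52, -1), (53, -1), (54, -1), (55, -1)],
   [(41, 2), (43, -1), (45, -1), (46, -1), (49, -1), (50, -1), (52, -1), (54, -1)],
   [(42, 2), (43, -1), (46, -1), (47, -1), (50, -1), (51, -1), (52, -1), (53, -1)],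
   [(43, 1)],
   [(44, 2), (45, -1), (46, -1), (47, -1), (49, -1), (50, -1), (53, -1), (55, -1)],
   [(45, 1)],
   [(46, 1)],
   [(47, 1)]]

def tabCert : List (List (ℕ × ℤ)) :=
  [[(0, 4), (7, -2), (11, -2), (15, -2), (20, 1), (21, 1), (22, 3), (23, 1), (27, -2), (28, -2), (31, 4), (33, 3), (34, -2), (37, 1), (39, -2), (40, -3), (41, -4), (42, -2), (43, 4), (44, -4), (45, 5), (46, 4), (47, 4), (48, -2), (49, 4), (50, 5), (51, 2), (52, 6), (53, 3), (54, 2), (55, 5)],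
   [(1, -1), (2, 1), (4, 1), (6, 1), (7, -1), (11, -1), (13, -1), (15, -1), (19, -1), (20, 2), (21, 2), (22, 1), (24, 1), (25, -1), (28, -1), (30, -2), (31, 2), (33, 1), (37, 2), (38, 2), (39, -4), (40, 1), (41, -2), (42, -1), (43, 2), (44, -2), (45, 1), (46, 2), (47, 4), (48, 2), (49, -1), (52, 2), (53, 1)],
   [(1, -1), (2, 1), (4, -1), (6, -1), (7, 1), (13, 1), (14, 1), (15, 1), (20, -2), (21, -1), (22, -1), (24, 1), (26, -1), (30, 1), (31, -1), (33, -2), (34, 1), (35, 1), (36, 1), (37, -2), (39, 3), (40, 1), (41, 2), (42, 2), (43, 1), (44, 3), (45, -1), (46, -3), (47, -2), (48, 1), (49, -1), (50, -2), (51, -1), (52, -4), (53, -2), (54, -2), (55, -1)],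
   [(1, -1), (2, -1), (4, 1), (6, -1), (7, 1), (11, 1), (13, 1), (14, 1), (20, -2), (21, -1), (22, -2), (24, 1), (26, 1), (30, 1), (31, -3), (33, -1), (35, -1), (36, 1), (37, -2), (38, -1), (39, 3), (40, 1), (41, 1), (42, 2), (43, -1), (46, -1), (47, -2), (49, 2), (52, -2), (54, -1), (55, 1)],
   [(1, -1), (2, -1), (4, -1), (6, 1), (7, 1), (13, 1), (19, 1), (20, -1), (21, -1), (22, -1), (23, 1), (24, 1), (25, 1), (28, -1), (31, -1), (33, -1), (34, 1), (37, -1), (39, 1), (40, 2), (41, 1), (42, 1), (44, 1), (45, -1), (46, -2), (47, -1), (48, 1), (50, -2), (51, -2), (52, -2), (54, -1)],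
   [(0, 1), (2, 1), (4, 1), (6, 1), (7, -2), (8, 1), (11, -2), (13, -2), (14, -1), (15, -2), (16, 1), (18, -1), (19, -1), (20, 4), (21, 3), (22, 4), (25, -1), (26, -1), (27, -1), (28, -2), (29, -1), (30, -1), (31, 6), (32, 1), (33, 3), (34, -2), (36, -2), (37, 3), (38, 2), (39, -5), (41, -4), (42, -3), (43, 2), (44, -3), (45, 3), (46, 4), (47, 6), (48, 1), (49, -2), (50, 3), (51, 2), (52, 4), (53, 1), (54, 2)],
   [(0, 1), (2, 1), (4, 1), (6, 1), (7, -2), (10, -1), (11, -1), (13, -1), (15, -1), (19, -1), (20, 2), (21, 2), (22, 2), (24, -1), (27, 1), (30, -1), (31, 2), (33, 2), (34, -1), (35, 1), (37, 2), (38, -1), (39, -4), (40, -2), (41, -3), (42, -2), (43, 1), (44, -3), (45, 1), (46, 3), (47, 4), (48, -1), (50, 2), (51, 1), (52, 5), (53, 2), (55, 1)],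
   [(0, 1), (2, 1), (4, 1), (6, 1), (7, -2), (11, -1), (12, -1), (13, -1), (15, -1), (19, -1), (20, 2), (21, 2), (22, 1), (26, -1), (28, -1), (30, -1), (31, 2), (33, 2), (34, -1), (35, 1), (37, 2), (38, 1), (39, -3), (40, -1), (41, -2), (42, -1), (43, 2), (44, -2), (45, 1), (46, 2), (47, 4), (48, 1), (50, 1), (52, 3), (54, 1), (55, 1)],
   [(0, 1), (2, 1), (4, -1), (6, -1), (10, 1), (11, -1), (13, 1), (20, -1), (22, 1), (24, -1), (27, -1), (30, 1), (31, 1), (33, -1), (35, 1), (37, -1), (38, 1), (39, 1), (40, -1), (43, 2), (44, 1), (45, 1), (48, -1), (49, 1), (50, 2), (51, 1), (54, 1), (55, 1)],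
   [(0, 1), (2, 1), (4, -1), (6, -1), (11, -1), (12, -1), (13, 1), (14, 1), (15, 1), (20, -2), (21, -1), (25, 1), (30, 1), (31, -1), (32, -1), (34, 1), (35, 1), (36, 2), (37, -1), (38, -1), (39, 1), (40, -3), (41, -1), (43, 2), (44, -1), (45, 1), (46, 1), (47, -1), (48, -2), (49, 2), (50, 3), (52, 1), (55, 2)],
   [(0, 1), (2, 1), (4, -1), (6, -1), (8, 1), (11, -1), (14, 1), (17, -1), (19, 1), (22, 1), (23, -1), (26, -1), (27, -1), (29, -1), (30, 1), (31, 2), (39, 1), (40, -2), (41, -1), (42, -1), (43, 2), (45, 1), (48, -2), (49, 1), (50, 4), (51, 2), (54, 1), (55, 1)],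
   [(0, 1), (2, 1), (4, -1), (6, -1), (9, -1), (13, 1), (14, 1), (15, 1), (16, 1), (18, 1), (19, -1), (20, -2), (21, -2), (22, -1), (30, 1), (31, -2), (33, -2), (35, 1), (37, -2), (38, 1), (39, 3), (40, 1), (41, 3), (42, 3), (43, 1), (44, 4), (46, -3), (47, -3), (48, 1), (49, -1), (50, -3), (51, -1), (52, -3), (53, -4), (54, -2), (55, -1)],
   [(0, 1), (2, -1), (4, 1), (6, -1), (9, -1), (11, 1), (13, 1), (14, 1), (15, -1), (20, -1), (21, -1), (22, -1), (26, 1), (30, 1), (31, -2), (35, -1), (36, 1), (37, -1), (38, -2), (39, 2), (40, -1), (42, 1), (45, 1), (47, -1), (48, -2), (49, 2), (50, 2), (51, 1), (52, 1), (54, 1), (55, 1)],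
   [(0, 1), (2, -1), (4, 1), (6, -1), (8, -1), (11, 1), (13, 1), (14, 1), (20, -2), (21, -2), (22, -2), (23, 1), (26, 1), (28, 1), (29, 1), (31, -3), (34, -1), (36, 1), (37, -2), (38, -2), (39, 4), (41, 2), (42, 3), (43, -1), (44, 1), (46, -2), (47, -3), (49, 3), (50, -2), (53, -1), (54, -1), (55, 1)],
   [(0, 1), (2, -1), (4, 1), (6, -1), (11, 1), (12, -1), (13, 1), (14, 1), (16, 1), (18, 1), (19, -1), (20, -2), (21, -2), (22, -2), (25, 1), (29, 1), (30, 1), (31, -4), (33, -1), (34, -1), (37, -2), (38, -1), (39, 4), (40, 1), (41, 2), (42, 4), (43, -1), (44, 2), (45, 1), (46, -1), (47, -3), (48, 1), (49, 2), (50, -3), (51, -1), (52, -2), (53, -3), (54, -1), (55, 1)],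
   [(0, 1), (2, -1), (4, 1), (6, -1), (10, 1), (15, -1), (17, -1), (19, 1), (24, 1), (25, -1), (27, -2), (28, -1), (31, 1), (32, 1), (33, 1), (34, -1), (35, -2), (39, 1), (41, -1), (42, 1), (43, 1), (45, 2), (48, -1), (49, 3), (50, 2), (51, 1), (54, 3), (55, 1)],
   [(0, 1), (2, -1), (4, -1), (6, 1), (12, 1), (14, -1), (15, -1), (17, -1), (19, 1), (20, 1), (22, 1), (23, 1), (27, -1), (28, -1), (31, 2), (33, 1), (35, -1), (36, -1), (37, 1), (39, -1), (41, -1), (42, -1), (44, -1), (45, 1), (46, 1), (47, 1), (48, -1), (49, 1), (50, 1), (52, 1), (53, 2), (54, 1), (55, 1)],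
   [(0, 1), (2, -1), (4, -1), (6, 1), (10, -1), (16, -1), (18, 1), (19, 1), (24, -1), (25, 2), (26, 1), (29, 1), (30, 1), (31, -1), (35, -1), (38, -2), (39, -1), (40, -2), (41, -1), (42, -2), (44, -2), (45, -1), (46, 2), (48, -3), (49, 3), (50, 1), (52, 2), (53, 3), (54, -1), (55, 3)],
   [(0, 1), (2, -1), (4, -1), (6, 1), (9, -1), (13, 1), (19, 1), (20, -1), (21, -1), (22, -1), (23, 1), (25, 1), (26, 1), (28, -1), (30, 1), (31, -1), (32, 1), (33, -1), (37, -1), (38, -1), (39, 1), (41, 1), (42, 1), (44, 1), (45, -1), (46, -2), (47, -1), (48, -1), (49, 1), (50, -1), (51, -1), (52, -1), (53, -1)],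
   [(0, 1), (2, -1), (4, -1), (6, 1), (8, 1), (11, -1), (15, -1), (19, 1), (20, 1), (22, 1), (25, 1), (27, -1), (28, -1), (30, 1), (31, 1), (35, -1), (36, -1), (37, 1), (39, -1), (40, -1), (41, -2), (42, -2), (43, 1), (44, -2), (45, 1), (46, 2), (47, 1), (48, -1), (49, 1), (50, 3), (51, 1), (52, 1), (53, 1), (54, 1), (55, 2)]]

def info1 : List (ℕ × ℕ) :=
  [(0, 59174367602444417), (1, 47870627152945282), (2, 22676887877200004), (3, 50248028323889288), (4, 10232348377915536), (5, 2841783434758304), (6, 50804937564678336), (8, 264545222306048), (9, 169585911294464), (10, 183552306105344), (12, 224671517700096), (16, 67723576910348288), (17, 43413993291382784), (18, 46989390362968064), (20, 57515908531224576), (24, 4278190080), (32, 1095216660480), (40, 280375465082880), (48, 71776119061217280)]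

def info2 : List (ℕ × ℕ) :=
  [(7, 255), (11, 16889224452116325), (13, 41940802322051926), (14, 25051706718967402), (15, 67554252108633433), (19, 57607352665178112), (21, 25315589512953856), (22, 67665302788636672), (23, 28495819528536064), (25, 55552262404183070), (26, 53326352687235886), (27, 59036576197711619), (28, 46479827125273921), (29, 40559150552584454), (30, 51850066058744446), (31, 10301468339930634), (33, 1095216660480), (41, 280375465082880), (49, 71776119061217280)]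

end Cfsg.Agent.Lib.Ru
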