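import Cfsg.Prelude.Def_Spor_Ru
import Cfsg.Agent.Lib.Ru.Data
import Mathlib

/-! # The rank 28 Gaussian lattice is even and has no roots -/

set_option autoImplicit false
set_option maxRecDepth 100000

namespace Cfsg.Agent.Lib.Ru

open Cfsg.Spor

/-- The vector with a given list of 56 real coordinates. -/
def vecL (l : List ℤ) : RuVec := fun p =>
  ⟨l.getD (8 * p.1.val + 2 * p.2.val) 0, l.getD (8 * p.1.val + 2 * p.2.val + 1) 0⟩

/-- The real coordinates of a vector. -/
def cq (v : RuVec) (q : ℕ) : ℤ :=
  if q % 2 = 0 then (v (Fin.ofNat 7 (q / 8), Fin.ofNat 4 (q % 8 / 2))).re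
  else (v (Fin.ofNat 7 (q / 8), Fin.ofNat 4 (q % 8 / 2))).im

def zeros : List ℤ := List.replicate 56 0

def row (i : ℕ) : List ℤ := ruRows.getD i zeros

def linL (cs : List (ℕ × ℤ)) : List ℤ :=
  cs.foldr (fun e acc => List.zipWith (fun a b => e.2 * a + b) (row e.1) acc) zeros

/-- The coordinates as a list. -/
def flatL (v : RuVec) : List ℤ := (List.range 56).map (cq v)

theorem cq_re (v : RuVec) (p : RuIdx) : cq v (8 * p.1.val + 2 * p.2.val) = (v p).re := by
  obtain ⟨n, t⟩ := p
  have h1 : Fin.ofNat 7 ((8 * n.val + 2 * t.val) / 8) = n := Fin.ext (by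
    simp only [Fin.val_ofNat]; omega)
  have h2 : Fin.ofNat 4 ((8 * n.val + 2 * t.val) % 8 / 2) = t := Fin.ext (by
    simp only [Fin.val_ofNat]; omega)
  rw [cq, if_pos (by omega), h1, h2]

theorem cq_im (v : RuVec) (p : RuIdx) : cq v (8 * p.1.val + 2 * p.2.val + 1) = (v p).im := by
  obtain ⟨n, t⟩ := p
  have h1 : Fin.ofNat 7 ((8 * n.val + 2 * t.val + 1) / 8) = n := Fin.ext (by
    simp only [Fin.val_ofNat]; omega)
  have h2 : Fin.ofNat 4 ((8 * n.val + 2 * t.val + 1) % 8 / 2) = t := Fin.ext (by
    simp only [Fin.val_ofNat]; omega)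
  rw [cq, if_neg (by omega), h1, h2]

theorem idx_lt (p : RuIdx) : 8 * p.1.val + 2 * p.2.val + 1 < 56 := by
  have := p.1.isLt; have := p.2.isLt; omega

theorem vecL_flatL (v : RuVec) : vecL (flatL v) = v := by
  funext p
  have := idx_lt p
  apply Zsqrtd.ext
  · show (flatL v).getD _ 0 = _
    rw [List.getD_eq_getElem _ _ (by simp [flatL]; omega)]
    simp [flatL, cq_re]
  · show (flatL v).getD _ 0 = _
    rw [List.getD_eq_getElem _ _ (by simp [flatL]; omega)]
    simp [flatL, cq_im]

theorem vecL_zeros : vecL zeros = 0 := by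
  funext p
  have := idx_lt p
  apply Zsqrtd.ext
  · show zeros.getD _ 0 = 0
    rw [List.getD_eq_getElem _ _ (show _ < zeros.length by
      rw [zeros, List.length_replicate]; omega)]
    exact List.getElem_replicate _
  · show zeros.getD _ 0 = 0
    rw [List.getD_eq_getElem _ _ (show _ < zeros.length by
      rw [zeros, List.length_replicate]; omega)]
    exact List.getElem_replicate _

/-- The group generated by the echelon rows. -/
def span : AddSubgroup RuVec :=
  AddSubgroup.closure {v | ∃ i, vecL (row i) = v}

theorem row_mem (i : ℕ) : vecL (row i) ∈ span :=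
  AddSubgroup.subset_closure (k := {v | ∃ j, vecL (row j) = v}) ⟨i, rfl⟩

theorem rows_len : ruRows.all (fun r => r.length == 56) = true := by decide +kernel

theorem row_len (i : ℕ) : (row i).length = 56 := by
  rw [row, List.getD_eq_getElem?_getD]
  cases h : ruRows[i]? with
  | none => rfl
  | some r =>
    have := List.all_eq_true.1 rows_len r (List.mem_of_getElem? h)
    simpa using this

theorem linL_mem : ∀ cs : List (ℕ × ℤ), (linL cs).length = 56 ∧ vecL (linL cs) ∈ span
  | [] => ⟨rfl, by
      show vecL zeros ∈ span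
      rw [vecL_zeros]; exact zero_mem _⟩
  | e :: cs => by
    obtain ⟨hl, hm⟩ := linL_mem cs
    have hr := row_len e.1
    refine ⟨by simp [linL] at hl ⊢; omega, ?_⟩
    have h : vecL (linL (e :: cs)) = e.2 • vecL (row e.1) + vecL (linL cs) := by
      funext p
      have hp : 8 * p.1.val + 2 * p.2.val + 1 < 56 := by
        have := p.1.isLt; have := p.2.isLt; omega
      have key : ∀ q < 56, (linL (e :: cs)).getD q 0 =
          e.2 * (row e.1).getD q 0 + (linL cs).getD q 0 := by
        intro q hq
        show (List.zipWith (fun a b => e.2 * a + b) (row e.1) (linL cs)).getD q 0 = _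
        rw [List.getD_eq_getElem _ _ (by simp [hr, hl, hq]), List.getElem_zipWith,
          List.getD_eq_getElem _ _ (by omega), List.getD_eq_getElem _ _ (by omega)]
      have k1 := key _ hp
      have k2 := key _ (by omega : 8 * p.1.val + 2 * p.2.val < 56)
      apply Zsqrtd.ext
      · show (linL (e :: cs)).getD _ 0 = _
        rw [k2]; simp [vecL]
      · show (linL (e :: cs)).getD _ 0 = _
        rw [k1]; simp [vecL]
    rw [h]
    exact add_mem (zsmul_mem (row_mem e.1) _) hm

/-- An additive map sending every row into the span preserves the span. -/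
theorem op_mem (op : RuVec → RuVec) (hadd : ∀ a b, op (a + b) = op a + op b)
    (cert : List (List (ℕ × ℤ)))
    (hc : ((List.range 56).all fun i => flatL (op (vecL (row i))) == linL (cert.getD i [])) = true) :
    ∀ v ∈ span, op v ∈ span := by
  let f : RuVec →+ RuVec := AddMonoidHom.mk' op hadd
  have : span ≤ span.comap f := (AddSubgroup.closure_le _).2 fun v ⟨i, hi⟩ => by
    subst hi
    show op (vecL (row i)) ∈ span
    by_cases h : i < 56
    · rw [← vecL_flatL (op _), eq_of_beq (List.all_eq_true.1 hc i (List.mem_range.2 h))]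
      exact (linL_mem _).2
    · have hlen : ruRows.length = 56 := by decide +kernel
      rw [row, List.getD_eq_getElem?_getD, List.getElem?_eq_none (by omega), Option.getD_none,
        vecL_zeros]
      exact (show op 0 = 0 from f.map_zero).symm ▸ zero_mem _
  exact fun v hv => this hv

theorem op0_ok : ((List.range 56).all fun i =>
    flatL (gI • vecL (row i)) == linL (opCert0.getD i [])) = true := by decide +kernel

theorem op1_ok : ((List.range 56).all fun i =>
    flatL (ruRj (vecL (row i))) == linL (opCert1.getD i [])) = true := by decide +kernel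

theorem op2_ok : ((List.range 56).all fun i =>
    flatL (ruRk (vecL (row i))) == linL (opCert2.getD i [])) = true := by decide +kernel

theorem op3_ok : ((List.range 56).all fun i =>
    flatL (ruSign (vecL (row i))) == linL (opCert3.getD i [])) = true := by decide +kernel

theorem op4_ok : ((List.range 56).all fun i =>
    flatL (ruShift (vecL (row i))) == linL (opCert4.getD i [])) = true := by decide +kernel

theorem tab_ok : ruTable.map flatL = tabCert.map linL := by decide +kernel

theorem lattice_le : ruLattice ≤ span := by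
  refine sInf_le ⟨fun v hv => ?_, fun v hv => ⟨?_, ?_, ?_, ?_, ?_⟩⟩
  · have h := List.mem_map_of_mem (f := flatL) hv
    rw [tab_ok, List.mem_map] at h
    obtain ⟨cs, -, he⟩ := h
    rw [← vecL_flatL v, ← he]
    exact (linL_mem cs).2
  · exact op_mem (gI • ·) (smul_add gI) _ op0_ok v hv
  · exact op_mem _ (fun a b => by
      funext ⟨n, t⟩; fin_cases t <;> simp [ruRj, mul_add] <;> abel) _ op1_ok v hv
  · exact op_mem _ (fun a b => by
      funext ⟨n, t⟩; fin_cases t <;> simp [ruRk, mul_add] <;> abel) _ op2_ok v hv
  · exact op_mem _ (fun a b => by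
      funext p; simp only [ruSign, Pi.add_apply]; split_ifs <;> abel) _ op3_ok v hv
  · exact op_mem _ (fun a b => rfl) _ op4_ok v hv

/-! ### Products -/

/-- The real inner product. -/
def dot (v w : RuVec) : ℤ := ∑ q ∈ Finset.range 56, cq v q * cq w q

theorem cq_vecL (l : List ℤ) (q : ℕ) (hq : q < 56) : cq (vecL l) q = l.getD q 0 := by
  have h : 8 * (Fin.ofNat 7 (q / 8)).val + 2 * (Fin.ofNat 4 (q % 8 / 2)).val + q % 2 = q := by
    simp [Fin.ofNat]; omega
  unfold cq vecL
  split_ifs with h2
  · rw [h2, add_zero] at h; simp only; rw [h]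
  · rw [show q % 2 = 1 by omega] at h; simp only; rw [h]

theorem cq_add (v w : RuVec) (q : ℕ) : cq (v + w) q = cq v q + cq w q := by
  unfold cq; split_ifs <;> simp

theorem cq_neg (v : RuVec) (q : ℕ) : cq (-v) q = -cq v q := by
  unfold cq; split_ifs <;> simp

theorem cq_zero (q : ℕ) : cq 0 q = 0 := by
  unfold cq; split_ifs <;> simp

theorem dot_comm (v w : RuVec) : dot v w = dot w v :=
  Finset.sum_congr rfl fun _ _ => mul_comm _ _

theorem dot_add (v u w : RuVec) : dot v (u + w) = dot v u + dot v w := by
  simp [dot, cq_add, mul_add, Finset.sum_add_distrib]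

theorem sum_idx (g : ℕ → ℤ) : ∑ q ∈ Finset.range 56, g q =
    ∑ p : RuIdx, (g (8 * p.1.val + 2 * p.2.val) + g (8 * p.1.val + 2 * p.2.val + 1)) := by
  simp only [Fintype.sum_prod_type, Fin.sum_univ_seven, Fin.sum_univ_four, Finset.sum_range_succ,
    Finset.sum_range_zero, zero_add]
  norm_num
  ring

theorem ruNorm_eq (v : RuVec) : ruNorm v = dot v v := by
  rw [dot, sum_idx, ruNorm]
  refine Finset.sum_congr rfl fun p _ => ?_
  rw [cq_re, cq_im, Zsqrtd.norm_def]
  ring

theorem dot_list : ∀ a b : List ℤ, a.length = b.length →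
    ∑ q ∈ Finset.range a.length, a.getD q 0 * b.getD q 0 = (List.zipWith (· * ·) a b).sum
  | [], [], _ => rfl
  | x :: a, y :: b, h => by
    simp only [List.length_cons, add_left_inj] at h
    rw [List.length_cons, Finset.sum_range_succ', List.zipWith_cons_cons, List.sum_cons,
      ← dot_list a b h]
    simp [add_comm]

theorem gram_ok : ((List.range 56).all fun i =>
    (List.zipWith (· * ·) (row i) (row i)).sum % 8 == 0 &&
    (List.range 56).all fun j => (List.zipWith (· * ·) (row i) (row j)).sum % 4 == 0) = true := by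
  decide +kernel

theorem dot_rows (i j : ℕ) : (4 : ℤ) ∣ dot (vecL (row i)) (vecL (row j)) ∧
    (8 : ℤ) ∣ dot (vecL (row i)) (vecL (row i)) := by
  have key : ∀ i j, dot (vecL (row i)) (vecL (row j)) = (List.zipWith (· * ·) (row i) (row j)).sum := by
    intro i j
    rw [← dot_list _ _ (by rw [row_len, row_len]), row_len]
    exact Finset.sum_congr rfl fun q hq => by
      rw [cq_vecL _ _ (Finset.mem_range.1 hq), cq_vecL _ _ (Finset.mem_range.1 hq)]
  have hz : ∀ k, ¬ k < 56 → vecL (row k) = 0 := fun k hk => by
    have hlen : ruRows.length = 56 := by decide +kernel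
    rw [row, List.getD_eq_getElem?_getD, List.getElem?_eq_none (by omega), Option.getD_none,
      vecL_zeros]
  by_cases hi : i < 56
  · have h := List.all_eq_true.1 gram_ok i (List.mem_range.2 hi)
    simp only [Bool.and_eq_true, beq_iff_eq, List.all_eq_true, List.mem_range] at h
    refine ⟨?_, key i i ▸ Int.dvd_of_emod_eq_zero h.1⟩
    by_cases hj : j < 56
    · exact key i j ▸ Int.dvd_of_emod_eq_zero (h.2 j hj)
    · simp [hz j hj, dot, cq_zero]
  · simp [hz i hi, dot, cq_zero]

theorem dot_span {v w : RuVec} (hv : v ∈ span) (hw : w ∈ span) : (4 : ℤ) ∣ dot v w := by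
  have h1 : ∀ i, (4 : ℤ) ∣ dot v (vecL (row i)) := by
    intro i
    induction hv using AddSubgroup.closure_induction with
    | mem x hx => obtain ⟨j, rfl⟩ := hx; exact (dot_rows j i).1
    | zero => simp [dot, cq_zero]
    | add x y _ _ hx hy => rw [dot_comm, dot_add, dot_comm _ x, dot_comm _ y]; exact dvd_add hx hy
    | neg x _ hx =>
      have : dot (-x) (vecL (row i)) = -dot x (vecL (row i)) := by
        simp [dot, cq_neg, Finset.sum_neg_distrib]
      rw [this]; exact dvd_neg.2 hx
  induction hw using AddSubgroup.closure_induction with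
  | mem x hx => obtain ⟨j, rfl⟩ := hx; exact h1 j
  | zero => simp [dot, cq_zero]
  | add x y _ _ hx hy => rw [dot_add]; exact dvd_add hx hy
  | neg x _ hx =>
    have : dot v (-x) = -dot v x := by simp [dot, cq_neg, Finset.sum_neg_distrib]
    rw [this]; exact dvd_neg.2 hx

theorem norm_span {v : RuVec} (hv : v ∈ span) : (8 : ℤ) ∣ dot v v := by
  induction hv using AddSubgroup.closure_induction with
  | mem x hx => obtain ⟨j, rfl⟩ := hx; exact (dot_rows j j).2
  | zero => simp [dot, cq_zero]
  | add x y hx' hy' hx hy =>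
    rw [dot_add, dot_comm _ x, dot_comm _ y, dot_add, dot_add, dot_comm y x]
    obtain ⟨k, hk⟩ := dot_span hx' hy'
    obtain ⟨a, ha⟩ := hx
    obtain ⟨b, hb⟩ := hy
    exact ⟨a + b + k, by linarith⟩
  | neg x _ hx =>
    have : dot (-x) (-x) = dot x x := by simp [dot, cq_neg]
    rwa [this]

/-! ### The binary code -/

/-- The exclusive or of the chosen code words. -/
def xorSel (l : List (ℕ × ℕ)) : ℕ := l.foldr (fun e acc => e.2 ^^^ acc) 0

def bitI (m q : ℕ) : ℤ := if m.testBit q then 1 else 0

def codeOK (info : List (ℕ × ℕ)) : Bool :=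
  (List.range 56).all fun i => (List.range 56).all fun q =>
    ((row i).getD q 0 - (info.map fun e => (row i).getD e.1 0 * bitI e.2 q).sum) % 2 == 0

theorem code1_ok : codeOK info1 = true := by decide +kernel

theorem code2_ok : codeOK info2 = true := by decide +kernel

theorem info_pos : ((info1 ++ info2).map Prod.fst).Nodup ∧
    ∀ e ∈ info1 ++ info2, e.1 < 56 := by decide +kernel

/-- The members with an odd coordinate at their position. -/
def oddSel (x : RuVec) (info : List (ℕ × ℕ)) : List (ℕ × ℕ) :=
  info.filter fun e => cq x e.1 % 2 != 0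

theorem xor_bit : ∀ (l : List (ℕ × ℕ)) (q : ℕ),
    bitI (xorSel l) q % 2 = (l.map fun e => bitI e.2 q).sum % 2
  | [], q => by simp [xorSel, bitI]
  | e :: l, q => by
    have ih := xor_bit l q
    simp only [bitI] at ih
    simp only [xorSel, List.foldr_cons, List.map_cons, List.sum_cons, bitI, Nat.testBit_xor] at ih ⊢
    rw [Int.add_emod, ← ih]
    by_cases h1 : e.2.testBit q = true <;>
      by_cases h2 : (List.foldr (fun (e : ℕ × ℕ) acc => e.2 ^^^ acc) 0 l).testBit q = true <;>
      simp [h1, h2]

theorem sum_sel (x : RuVec) (q : ℕ) : ∀ l : List (ℕ × ℕ),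
    (l.map fun e => cq x e.1 * bitI e.2 q).sum % 2 =
      ((oddSel x l).map fun e => bitI e.2 q).sum % 2
  | [] => rfl
  | e :: l => by
    have ih := sum_sel x q l
    unfold oddSel at ih ⊢
    rw [List.filter_cons]
    by_cases h : cq x e.1 % 2 = 0
    · simp only [h, bne_self_eq_false, Bool.false_eq_true, ↓reduceIte, List.map_cons, List.sum_cons]
      rw [Int.add_emod, Int.mul_emod, h, ← ih]
      simp
    · have h1 : cq x e.1 % 2 = 1 := by omega
      simp only [h1, show ((1 : ℤ) != 0) = true from rfl, ↓reduceIte, List.map_cons, List.sum_cons]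
      rw [Int.add_emod, Int.mul_emod, h1, Int.add_emod (bitI e.2 q), ← ih]
      simp

theorem odd_iff {x : RuVec} (hx : x ∈ span) {info : List (ℕ × ℕ)} (hc : codeOK info = true)
    (hlt : ∀ e ∈ info, e.1 < 56) (q : ℕ) (hq : q < 56) :
    cq x q % 2 ≠ 0 ↔ (xorSel (oddSel x info)).testBit q = true := by
  have h : (2 : ℤ) ∣ cq x q - (info.map fun e => cq x e.1 * bitI e.2 q).sum := by
    have hlen : ruRows.length = 56 := by decide +kernel
    induction hx using AddSubgroup.closure_induction with
    | mem v hv =>
      obtain ⟨i, rfl⟩ := hv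
      by_cases hi : i < 56
      · have h := List.all_eq_true.1 (List.all_eq_true.1 hc i (List.mem_range.2 hi)) q
          (List.mem_range.2 hq)
        rw [cq_vecL _ _ hq]
        refine Int.dvd_of_emod_eq_zero ?_
        rw [List.map_congr_left (g := fun e => (row i).getD e.1 0 * bitI e.2 q)
          fun e he => by rw [cq_vecL _ _ (hlt e he)]]
        exact eq_of_beq h
      · rw [row, List.getD_eq_getElem?_getD, List.getElem?_eq_none (by omega), Option.getD_none,
          vecL_zeros]
        simp [cq_zero]
    | zero => simp [cq_zero]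
    | add a b _ _ ha hb =>
      have : (info.map fun e => cq (a + b) e.1 * bitI e.2 q).sum =
          (info.map fun e => cq a e.1 * bitI e.2 q).sum + (info.map fun e => cq b e.1 * bitI e.2 q).sum := by
        rw [← List.sum_map_add]
        exact congrArg List.sum (List.map_congr_left fun e _ => by rw [cq_add]; ring)
      rw [cq_add, this]
      obtain ⟨u, hu⟩ := ha
      obtain ⟨w, hw⟩ := hb
      exact ⟨u + w, by linarith⟩
    | neg a _ ha =>
      have : (info.map fun e => cq (-a) e.1 * bitI e.2 q).sum =
          -(info.map fun e => cq a e.1 * bitI e.2 q).sum := by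
        rw [List.sum_neg, List.map_map]
        exact congrArg List.sum (List.map_congr_left fun e _ => by simp [cq_neg])
      rw [cq_neg, this]
      obtain ⟨u, hu⟩ := ha
      exact ⟨-u, by linarith⟩
  have h2 := sum_sel x q info
  rw [← xor_bit] at h2
  have h3 : cq x q % 2 = bitI (xorSel (oddSel x info)) q % 2 := by omega
  unfold bitI at h3
  cases hb : (xorSel (oddSel x info)).testBit q <;> simp [hb] at h3 ⊢ <;> omega

/-- The number of ones of a four bit number. -/
def wtNib (i : ℕ) : ℕ := i % 2 + i / 2 % 2 + i / 4 % 2 + i / 8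

def wt : ℕ → ℕ → ℕ
  | 0, _ => 0
  | k + 1, m => wtNib (m % 16) + wt k (m / 16)

theorem wt_eq : ∀ k m, wt k m = ((Finset.range (4 * k)).filter fun q => m.testBit q = true).card
  | 0, m => by simp [wt]
  | k + 1, m => by
    rw [Finset.card_filter, show 4 * (k + 1) = 4 + 4 * k by ring, Finset.sum_range_add,
      show wt (k + 1) m = wtNib (m % 16) + wt k (m / 16) from rfl, wt_eq k, Finset.card_filter]
    congr 1
    · have key : ∀ i < 16, wtNib i = ∑ q ∈ Finset.range 4, if i.testBit q = true then 1 else 0 := by
        decide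
      rw [key _ (Nat.mod_lt _ (by norm_num))]
      refine Finset.sum_congr rfl fun q hq => ?_
      rw [show (16 : ℕ) = 2 ^ 4 by norm_num, Nat.testBit_mod_two_pow]
      simp [Finset.mem_range.1 hq]
    · refine Finset.sum_congr rfl fun q _ => ?_
      rw [show (16 : ℕ) = 2 ^ 4 by norm_num, Nat.testBit_div_two_pow, add_comm q 4]

def lightOK (info : List (ℕ × ℕ)) : Bool :=
  (List.range 5).all fun k => (info.sublistsLen k).all fun l =>
    decide (8 < wt 14 (xorSel l)) || xorSel l == 0 ||
      (List.range 7).any fun n => xorSel l == 255 <<< (8 * n)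

theorem light1_ok : lightOK info1 = true := by decide +kernel

theorem light2_ok : lightOK info2 = true := by decide +kernel

theorem support_cases {x : RuVec} (hx : x ∈ span)
    (h8 : ((Finset.range 56).filter fun q => cq x q % 2 ≠ 0).card ≤ 8) :
    (∀ q < 56, cq x q % 2 = 0) ∨
      ∃ n < 7, ∀ q < 56, cq x q % 2 ≠ 0 ↔ q / 8 = n := by
  obtain ⟨hnd, hlt⟩ := info_pos
  have key : ∀ info, (∀ e ∈ info, e.1 < 56) → codeOK info = true → lightOK info = true →
      (oddSel x info).length ≤ 4 → (∀ q < 56, cq x q % 2 = 0) ∨
        ∃ n < 7, ∀ q < 56, cq x q % 2 ≠ 0 ↔ q / 8 = n := by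
    intro info hl hc hlight hlen
    have h := List.all_eq_true.1 (List.all_eq_true.1 hlight _ (List.mem_range.2
      (Nat.lt_succ_of_le hlen))) (oddSel x info) (List.mem_sublistsLen.2
        ⟨List.filter_sublist, rfl⟩)
    simp only [Bool.or_eq_true, decide_eq_true_eq, beq_iff_eq, List.any_eq_true,
      List.mem_range] at h
    have hodd := odd_iff hx hc hl
    rcases h with (h | h) | ⟨n, hn, h⟩
    · exfalso
      rw [wt_eq, show 4 * 14 = 56 from rfl, show ((Finset.range 56).filter fun q => (xorSel (oddSel x info)).testBit q = true) =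
        (Finset.range 56).filter fun q => cq x q % 2 ≠ 0 from Finset.filter_congr fun q hq =>
          (hodd q (Finset.mem_range.1 hq)).symm] at h
      omega
    · refine Or.inl fun q hq => ?_
      have := (hodd q hq).not
      simp [h] at this
      exact Int.emod_eq_zero_of_dvd this
    · refine Or.inr ⟨n, hn, fun q hq => ?_⟩
      rw [hodd q hq, h]
      have hb : ∀ n < 7, ∀ q < 56, (255 <<< (8 * n)).testBit q = decide (q / 8 = n) := by
        decide +kernel
      rw [hb n hn q hq, decide_eq_true_eq]
  by_cases h1 : (oddSel x info1).length ≤ 4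
  · exact key info1 (fun e he => hlt e (List.mem_append_left _ he)) code1_ok light1_ok h1
  refine key info2 (fun e he => hlt e (List.mem_append_right _ he)) code2_ok light2_ok ?_
  have hsub : ((oddSel x info1 ++ oddSel x info2).map Prod.fst).toFinset ⊆
      (Finset.range 56).filter fun q => cq x q % 2 ≠ 0 := by
    intro q hq
    simp only [List.mem_toFinset, List.mem_map, List.mem_append, oddSel, List.mem_filter,
      bne_iff_ne] at hq
    obtain ⟨e, he, rfl⟩ := hq
    rcases he with ⟨he, ho⟩ | ⟨he, ho⟩
    · exact Finset.mem_filter.2 ⟨Finset.mem_range.2 (hlt e (List.mem_append_left _ he)), ho⟩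
    · exact Finset.mem_filter.2 ⟨Finset.mem_range.2 (hlt e (List.mem_append_right _ he)), ho⟩
  have hnd' : ((oddSel x info1 ++ oddSel x info2).map Prod.fst).Nodup :=
    hnd.sublist ((List.filter_sublist.append List.filter_sublist).map _)
  have := Finset.card_le_card hsub
  rw [List.toFinset_card_of_nodup hnd', List.length_map, List.length_append] at this
  omega

/-- All lists of eight signs. -/
def signs : ℕ → List (List ℤ)
  | 0 => [[]]
  | k + 1 => (signs k).flatMap fun l => [1 :: l, -1 :: l]

theorem mem_signs : ∀ l : List ℤ, (∀ a ∈ l, a = 1 ∨ a = -1) → l ∈ signs l.length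
  | [], _ => by simp [signs]
  | a :: l, h => by
    refine List.mem_flatMap.2 ⟨l, mem_signs l fun b hb => h b (List.mem_cons_of_mem _ hb), ?_⟩
    rcases h a List.mem_cons_self with rfl | rfl <;> simp

def blockBad (n : ℕ) : Bool := (signs 8).all fun s => (List.range 56).any fun i =>
  ((List.range 8).map fun t => s.getD t 0 * (row i).getD (8 * n + t) 0).sum % 4 != 0

theorem blockBad_ok : ((List.range 7).all blockBad) = true := by decide +kernel

theorem pairBad_ok : ((List.range 56).all fun p => (List.range p).all fun q =>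
    (List.range 56).any fun i => ((row i).getD p 0 + (row i).getD q 0) % 2 != 0) = true := by
  decide +kernel

theorem no_root {x : RuVec} (hx : x ∈ span) : dot x x ≠ 8 := by
  intro h8
  have hsq : ∀ a : ℤ, 0 ≤ a * a ∧ (a % 2 ≠ 0 → 1 ≤ a * a) := fun a => ⟨mul_self_nonneg a, fun h => by
    rcases lt_trichotomy a 0 with h' | h' | h'
    · nlinarith
    · simp [h'] at h
    · nlinarith⟩
  set ind : ℕ → ℤ := fun q => if cq x q % 2 ≠ 0 then 1 else 0 with hind
  have hge : ∀ q ∈ Finset.range 56, 0 ≤ cq x q * cq x q - ind q := fun q _ => by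
    simp only [hind]; split_ifs with h
    · linarith [(hsq (cq x q)).2 h]
    · linarith [(hsq (cq x q)).1]
  have hcard : ∑ q ∈ Finset.range 56, ind q =
      ((Finset.range 56).filter fun q => cq x q % 2 ≠ 0).card := by
    simp [hind, Finset.sum_boole]
  have hsum : ∑ q ∈ Finset.range 56, (cq x q * cq x q - ind q) =
      8 - (((Finset.range 56).filter fun q => cq x q % 2 ≠ 0).card : ℤ) := by
    rw [Finset.sum_sub_distrib, hcard, ← h8]; rfl
  have hle : ((Finset.range 56).filter fun q => cq x q % 2 ≠ 0).card ≤ 8 := by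
    have := Finset.sum_nonneg hge
    omega
  rcases support_cases hx hle with hev | ⟨n, hn, hblk⟩
  · -- two coordinates equal to two up to sign
    set S := (Finset.range 56).filter fun q => cq x q ≠ 0 with hS
    have h4 : ∀ q ∈ S, 4 ≤ cq x q * cq x q := fun q hq => by
      simp only [hS, Finset.mem_filter, Finset.mem_range] at hq
      obtain ⟨k, hk⟩ := Int.dvd_of_emod_eq_zero (hev q hq.1)
      have hk0 : k ≠ 0 := fun e => hq.2 (by rw [hk, e, mul_zero])
      have : 1 ≤ k * k := by
        rcases lt_or_gt_of_ne hk0 with h | h <;> nlinarith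
      rw [hk]; linarith
    have hsumS : ∑ q ∈ S, cq x q * cq x q = 8 := by
      rw [← h8, dot, hS, Finset.sum_filter]
      refine Finset.sum_congr rfl fun q _ => ?_
      split_ifs with h
      · rfl
      · simp [not_not.1 h]
    have hS2 : S.card = 2 := by
      have := Finset.card_nsmul_le_sum S _ 4 h4
      rw [hsumS, nsmul_eq_mul] at this
      have hS0 : S.card ≠ 0 := fun e => by
        rw [Finset.card_eq_zero.1 e, Finset.sum_empty] at hsumS
        norm_num at hsumS
      by_contra h2
      have h1 : S.card = 1 := by omega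
      obtain ⟨p, hp⟩ := Finset.card_eq_one.1 h1
      rw [hp, Finset.sum_singleton] at hsumS
      have : cq x p < 3 ∧ -3 < cq x p := ⟨by nlinarith, by nlinarith⟩
      obtain ⟨h1, h2⟩ := this
      interval_cases hv : cq x p <;> simp at hsumS
    obtain ⟨p, q, hpq, hSe⟩ := Finset.card_eq_two.1 hS2
    wlog hlt : q < p generalizing p q
    · exact this q p (Ne.symm hpq) (hSe.trans (Finset.pair_comm p q)) (by omega)
    have hmem : ∀ r ∈ S, r < 56 ∧ cq x r % 4 = 2 := by
      intro r hr
      have hr' : r < 56 := Finset.mem_range.1 (Finset.mem_filter.1 hr).1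
      refine ⟨hr', ?_⟩
      have h1 := h4 r hr
      have h2 : cq x r * cq x r ≤ 4 := by
        rw [hSe, Finset.sum_pair hpq] at hsumS
        rw [hSe, Finset.mem_insert, Finset.mem_singleton] at hr
        rcases hr with rfl | rfl
        · linarith [h4 q (by rw [hSe]; simp)]
        · linarith [h4 p (by rw [hSe]; simp)]
      have h3 : cq x r ≤ 2 ∧ -2 ≤ cq x r := ⟨by nlinarith, by nlinarith⟩
      have := hev r hr'
      obtain ⟨h5, h6⟩ := h3
      interval_cases hv : cq x r <;> simp at h1 this ⊢
    obtain ⟨hp56, hp2⟩ := hmem p (by rw [hSe]; simp)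
    obtain ⟨hq56, hq2⟩ := hmem q (by rw [hSe]; simp)
    obtain ⟨i, hi, hio⟩ := List.any_eq_true.1 (List.all_eq_true.1 (List.all_eq_true.1 pairBad_ok p
      (List.mem_range.2 hp56)) q (List.mem_range.2 hlt))
    obtain ⟨c, hc⟩ := dot_span hx (row_mem i)
    have hd : dot x (vecL (row i)) = cq x p * (row i).getD p 0 + cq x q * (row i).getD q 0 := by
      rw [dot, ← Finset.sum_subset (s₁ := S) (Finset.filter_subset _ _) (fun r hr hrS => by
        have : cq x r = 0 := by_contra fun e => hrS (Finset.mem_filter.2 ⟨hr, e⟩)
        rw [this, zero_mul]), hSe, Finset.sum_pair hpq, cq_vecL _ _ hp56, cq_vecL _ _ hq56]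
    have hp' : 4 * (cq x p / 4) + 2 = cq x p := by omega
    have hq' : 4 * (cq x q / 4) + 2 = cq x q := by omega
    rw [bne_iff_ne] at hio
    apply hio
    rw [← hp', ← hq'] at hd
    have : 2 * ((row i).getD p 0 + (row i).getD q 0) =
        4 * (c - cq x p / 4 * (row i).getD p 0 - cq x q / 4 * (row i).getD q 0) := by linarith
    omega
  · -- eight odd coordinates forming a block
    have hfil : ((Finset.range 56).filter fun q => cq x q % 2 ≠ 0) =
        (Finset.range 8).image (8 * n + ·) := by
      ext q
      simp only [Finset.mem_filter, Finset.mem_range, Finset.mem_image]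
      constructor
      · rintro ⟨hq, h⟩
        exact ⟨q % 8, by omega, by have := (hblk q hq).1 h; omega⟩
      · rintro ⟨t, ht, rfl⟩
        exact ⟨by omega, (hblk _ (by omega)).2 (by omega)⟩
    have hc8 : ((Finset.range 56).filter fun q => cq x q % 2 ≠ 0).card = 8 := by
      rw [hfil, Finset.card_image_of_injective _ (fun a b h => by simpa using h), Finset.card_range]
    have heq : ∀ q ∈ Finset.range 56, cq x q * cq x q - ind q = 0 :=
      (Finset.sum_eq_zero_iff_of_nonneg hge).1 (by rw [hsum, hc8]; norm_num)
    have hout : ∀ q < 56, q / 8 ≠ n → cq x q = 0 := fun q hq hne => by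
      have h := heq q (Finset.mem_range.2 hq)
      simp only [hind, show ¬ (cq x q % 2 ≠ 0) from fun e => hne ((hblk q hq).1 e), if_false,
        sub_zero, mul_self_eq_zero] at h
      exact h
    have hin : ∀ t < 8, cq x (8 * n + t) = 1 ∨ cq x (8 * n + t) = -1 := fun t ht => by
      have h := heq _ (Finset.mem_range.2 (show 8 * n + t < 56 by omega))
      simp only [hind, (hblk (8 * n + t) (by omega)).2 (by omega), ne_eq, not_false_iff,
        if_true, sub_eq_zero, mul_self_eq_one_iff] at h
      exact h
    have hs : (List.range 8).map (fun t => cq x (8 * n + t)) ∈ signs 8 := by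
      have := mem_signs ((List.range 8).map fun t => cq x (8 * n + t)) (fun a ha => by
        obtain ⟨t, ht, rfl⟩ := List.mem_map.1 ha
        exact hin t (List.mem_range.1 ht))
      simpa using this
    obtain ⟨i, hi, hio⟩ := List.any_eq_true.1 (List.all_eq_true.1
      (List.all_eq_true.1 blockBad_ok n (List.mem_range.2 hn)) _ hs)
    have hd := dot_span hx (row_mem i)
    rw [bne_iff_ne] at hio
    apply hio
    refine Int.emod_eq_zero_of_dvd ?_
    convert hd using 1
    rw [dot, ← Finset.sum_subset (s₁ := (Finset.range 8).image (8 * n + ·))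
      (fun q hq => by
        obtain ⟨t, ht, rfl⟩ := Finset.mem_image.1 hq
        rw [Finset.mem_range] at ht ⊢; omega)
      (fun q hq hnot => by
        rw [Finset.mem_range] at hq
        rw [hout q hq fun e => hnot (Finset.mem_image.2 ⟨q % 8, Finset.mem_range.2 (by omega),
          by omega⟩), zero_mul]),
      Finset.sum_image (fun a _ b _ h => by simpa using h)]
    show _ = ((List.range 8).map fun t =>
      cq x (8 * n + t) * cq (vecL (row i)) (8 * n + t)).sum
    refine congrArg List.sum (List.map_congr_left fun t ht => ?_)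
    rw [List.mem_range] at ht
    rw [cq_vecL _ _ (by omega), List.getD_eq_getElem _ _ (by simpa using ht)]
    simp

end Cfsg.Agent.Lib.Ru
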